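import Groth.Agent.Lib.FormSub28.Stable
import Groth.Agent.Lib.GLRed28.Integral
import Groth.Agent.S19602
import Mathlib.RingTheory.Jacobson.Artinian
import Mathlib.RingTheory.HopkinsLevitzki
import Mathlib.FieldTheory.IsAlgClosed.AlgebraicClosure
import Mathlib.RingTheory.Ideal.MinimalPrime.Noetherian

/-!
# Stability for the special linear group through the general linear group
-/

universe u

open TensorProduct MvPolynomial CoordGrp WithConv Groth.Agent.OrbitH28

noncomputable section

namespace Groth.Agent.FormSub28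

/-- A point of the closure of the image is the limit along a rational place of an algebraically closed field. -/
theorem exists_place_algClosed {k : Type u} [Field k] [IsAlgClosed k] {A R : Type u} [CommRing A] [Algebra k A]
    [CommRing R] [Algebra k R] (φ : R →ₐ[k] A) (y : R →ₐ[k] k) (hy : RingHom.ker φ ≤ RingHom.ker y) :
    ∃ (K : Type u) (_ : Field K) (_ : IsAlgClosed K) (_ : Algebra k K) (V : ValuationSubring K) (res : V →+* k)
      (ω : A →ₐ[k] K),
      (∀ c : k, ∃ h : algebraMap k K c ∈ V, res ⟨_, h⟩ = c) ∧ RingHom.ker res = IsLocalRing.maximalIdeal V ∧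
      ∀ f : R, ∃ h : ω (φ f) ∈ V, res ⟨_, h⟩ = y f := by
  classical
  haveI : (RingHom.ker y).IsPrime := RingHom.ker_isPrime y
  obtain ⟨q, hq, hqy⟩ := Ideal.exists_minimalPrimes_le hy
  obtain ⟨P, hP, -, hPq⟩ := Ideal.exists_comap_eq_of_mem_minimalPrimes (φ : R →+* A) (I := ⊥) q hq
  let K₀ := FractionRing (A ⧸ P)
  let K := AlgebraicClosure K₀
  let ω : A →ₐ[k] K := ((IsScalarTower.toAlgHom k K₀ K).comp (IsScalarTower.toAlgHom k (A ⧸ P) K₀)).comp
    (Ideal.Quotient.mkₐ k P)
  have hω : ∀ a, ω a = 0 ↔ a ∈ P := fun a =>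
    (map_eq_zero (algebraMap K₀ K)).trans
      ((map_eq_zero_iff (algebraMap (A ⧸ P) K₀) (IsFractionRing.injective _ _)).trans Ideal.Quotient.eq_zero_iff_mem)
  let Γ₀ : Subalgebra k (K × k) := ((ω.comp φ).prod y).range
  have hΓ₀ : PlaceRat28.IsGraph Γ₀ := by
    rintro c ⟨f, hf⟩
    have h1 : ω (φ f) = 0 := congrArg Prod.fst hf
    have h2 : y f = c := congrArg Prod.snd hf
    rw [← h2]
    refine RingHom.mem_ker.1 (hqy ?_)
    rw [← hPq]
    exact (hω _).1 h1
  obtain ⟨V, res, halg, hker, hext⟩ := PlaceRat28.exists_valuationSubring Γ₀ hΓ₀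
  exact ⟨K, inferInstance, inferInstance, inferInstance, V, res, ω, halg, hker, fun f => hext _ _ ⟨f, rfl⟩⟩

variable {k : Type u} [Field k] {N d : ℕ}

lemma eval_smul_of_isHomogeneous {σ : Type*} {R : Type u} [CommRing R] {F : MvPolynomial σ R} {j : ℕ}
    (hF : F.IsHomogeneous j) (c : R) (v : σ → R) : eval (c • v) F = c ^ j * eval v F := by
  conv_lhs => rw [F.as_sum]
  conv_rhs => rw [F.as_sum]
  simp only [map_sum, Finset.mul_sum, eval_monomial]
  refine Finset.sum_congr rfl fun β hβ => ?_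
  simp only [Finsupp.prod, Pi.smul_apply, smul_eq_mul, mul_pow, Finset.prod_mul_distrib,
    Finset.prod_pow_eq_pow_sum]
  rw [show ∑ i ∈ β.support, β i = j from (Finsupp.degree_apply β).symm.trans (by
    by_contra hne
    exact mem_support_iff.1 hβ (hF.coeff_eq_zero hne))]
  ring

/-- The comodule of forms over the general linear group. -/
abbrev cG (N d : ℕ) (k : Type u) [Field k] : HopfRep.Comod k (GLn N k) (FormRing k N d) :=
  GLin.comodAlong (Mat.toGLn N k) (formsCoact k N d)

lemma hcG (N d : ℕ) (k : Type u) [Field k] :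
    @GLin.IsCoactAlg k _ (GLn N k) _ _ (FormRing k N d) _ _ (cG N d k) :=
  GLin.isCoactAlg_comodAlong (Mat.toGLn N k) (formsCoact k N d) (formsCoact_isCoactAlg k N d)

/-- The orbit map under the general linear group. -/
abbrev orbG (a : FormIdx N d → k) : FormRing k N d →ₐ[k] GLn N k :=
  @GLin.orbitHom k _ (GLn N k) _ _ (FormRing k N d) _ _ (cG N d k) (hcG N d k) (GLin.vecPt k _ a)

lemma orbG_X (a : FormIdx N d → k) (m : FormIdx N d) :
    orbG a (X m) = ∑ l : FormIdx N d, a l • Mat.toGLn N k (formCoeff k N d l m) := by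
  show TensorProduct.lid k _ (TensorProduct.map (GLin.vecPt k _ a).toLinearMap LinearMap.id
    (TensorProduct.map LinearMap.id (Mat.toGLn N k : Mat N k →ₗ[k] GLn N k) (formsCoactAlg k N d (X m)))) = _
  rw [formsCoactAlg_X]
  simp

lemma orb_eq_orbG (a : FormIdx N d → k) :
    orb a = (SLn.mkHom N k : GLn N k →ₐ[k] SLn N k).comp (orbG a) := by
  refine MvPolynomial.algHom_ext fun m => ?_
  rw [AlgHom.comp_apply, orb_X, orbG_X, map_sum]
  simp [φM]

section Scaling

variable {K : Type u} [Field K] [Algebra k K]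

lemma subM_smul (t : K) (M : Matrix (Fin N) (Fin N) K) {F : MvPolynomial (Fin N) K} {j : ℕ}
    (hF : F.IsHomogeneous j) : subM (t • M) F = C (t ^ j) * subM M F := by
  conv_lhs => rw [F.as_sum]
  conv_rhs => rw [F.as_sum]
  simp only [map_sum, Finset.mul_sum]
  refine Finset.sum_congr rfl fun β hβ => ?_
  have hsub : ∀ M : Matrix (Fin N) (Fin N) K, subM M (monomial β (coeff β F)) =
      C (coeff β F) * ∏ i, (∑ l, C (M i l) * X l) ^ β i := fun M => by
    rw [subM, GLRed28.sub, aeval_monomial, MvPolynomial.algebraMap_eq, Finsupp.prod_fintype _ _ fun i => pow_zero _]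
  have hscale : ∀ i, (∑ l, C ((t • M) i l) * X l : MvPolynomial (Fin N) K) = C t * ∑ l, C (M i l) * X l :=
    fun i => by simp [Finset.mul_sum, mul_assoc]
  rw [hsub, hsub]
  simp only [hscale, mul_pow, Finset.prod_mul_distrib, Finset.prod_pow_eq_pow_sum]
  rw [show ∑ i, β i = j from (Finsupp.degree_eq_sum β).symm.trans (by
    by_contra hne
    exact mem_support_iff.1 hβ (hF.coeff_eq_zero hne)), map_pow]
  ring

lemma moved_scal (t : K) (Ξ : GLn N k →ₐ[k] K) (Ξ' : SLn N k →ₐ[k] K)
    (hX : ∀ i j, Ξ (GLn.X i j) = t * Ξ' (SLn.X i j)) (a : FormIdx N d → k) (m : FormIdx N d) :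
    Ξ (orbG a (X m)) = t ^ d * Ξ' (orb a (X m)) := by
  rw [orbG_X, orb_X, map_sum, map_sum, Finset.mul_sum]
  refine Finset.sum_congr rfl fun l _ => ?_
  rw [map_smul, map_smul, mul_smul_comm]
  congr 1
  have h1 := apply_formCoeff (Ξ.comp (Mat.toGLn N k : Mat N k →ₐ[k] GLn N k)) l m
  have h2 := apply_formCoeff (Ξ'.comp (φM N k : Mat N k →ₐ[k] SLn N k)) l m
  have e : (mat (Ξ.comp (Mat.toGLn N k : Mat N k →ₐ[k] GLn N k))).transpose =
      t • (mat (Ξ'.comp (φM N k : Mat N k →ₐ[k] SLn N k))).transpose := by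
    ext i j
    show Ξ (Mat.toGLn N k (Mat.X j i)) = t * Ξ' (φM N k (Mat.X j i))
    rw [Mat.toGLn_X, φM_X, hX]
  rw [e, subM_smul t _ (isHomogeneous_monomial 1 m.2), coeff_C_mul] at h1
  exact h1.trans (congrArg (t ^ d * ·) h2.symm)

lemma apply_eq_eval (Ξ : GLn N k →ₐ[k] K) (a : FormIdx N d → k) (f : FormRing k N d) :
    Ξ (orbG a f) = eval (fun m => Ξ (orbG a (X m))) (MvPolynomial.map (algebraMap k K) f) := by
  rw [eval_map, ← aeval_def]
  exact AlgHom.congr_fun (MvPolynomial.algHom_ext (f := Ξ.comp (orbG a))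
    (g := aeval fun m => Ξ (orbG a (X m))) fun m => by simp) f

lemma apply_eq_eval' (Ξ : SLn N k →ₐ[k] K) (a : FormIdx N d → k) (f : FormRing k N d) :
    Ξ (orb a f) = eval (fun m => Ξ (orb a (X m))) (MvPolynomial.map (algebraMap k K) f) := by
  rw [eval_map, ← aeval_def]
  exact AlgHom.congr_fun (MvPolynomial.algHom_ext (f := Ξ.comp (orb a))
    (g := aeval fun m => Ξ (orb a (X m))) fun m => by simp) f

lemma orb_invariant {a : FormIdx N d → k} {F : FormRing k N d}
    (hF : @HopfRep.Comod.coact k (SLn N k) _ _ _ _ (FormRing k N d) _ _ (cF N d k) F = F ⊗ₜ[k] (1 : SLn N k)) :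
    orb a F = algebraMap k (SLn N k) (eval a F) := by
  letI := cF N d k
  haveI := hcF N d k
  show GLin.orbitHom k (SLn N k) (GLin.vecPt k _ a) F = _
  rw [Comodule.orbitHom_apply, hF]
  simp [GLin.vecPt, Algebra.algebraMap_eq_smul_one, MvPolynomial.aeval_eq_eval]

/-- Homogeneous invariants transform by a power of the scalar. -/
lemma apply_invariant {j : ℕ} {a : FormIdx N d → k} {F : FormRing k N d} (hFh : F.IsHomogeneous j)
    (hF : @HopfRep.Comod.coact k (SLn N k) _ _ _ _ (FormRing k N d) _ _ (cF N d k) F = F ⊗ₜ[k] (1 : SLn N k))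
    (t : K) (Ξ : GLn N k →ₐ[k] K) (Ξ' : SLn N k →ₐ[k] K)
    (hX : ∀ i l, Ξ (GLn.X i l) = t * Ξ' (SLn.X i l)) :
    Ξ (orbG a F) = t ^ (d * j) * algebraMap k K (eval a F) := by
  rw [apply_eq_eval, show (fun m => Ξ (orbG a (X m))) = t ^ d • fun m => Ξ' (orb a (X m)) from
    funext fun m => moved_scal t Ξ Ξ' hX a m, eval_smul_of_isHomogeneous (hFh.map _), ← apply_eq_eval',
    orb_invariant hF, AlgHom.commutes, ← pow_mul]

/-- Dividing by a root of the determinant. -/
lemma exists_sl_part [IsAlgClosed K] (hN : 0 < N) (Ξ : GLn N k →ₐ[k] K) :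
    ∃ (t : K) (Ξ' : SLn N k →ₐ[k] K), t ≠ 0 ∧ t ^ N = Ξ GLn.det ∧
      ∀ i j, Ξ (GLn.X i j) = t * Ξ' (SLn.X i j) := by
  have hne : Ξ GLn.det ≠ 0 := left_ne_zero_of_mul_eq_one
    (show Ξ GLn.det * Ξ GLn.Dinv = 1 by rw [← map_mul, GLn.det_mul_Dinv, map_one])
  obtain ⟨t, ht⟩ := IsAlgClosed.exists_pow_nat_eq (Ξ GLn.det) hN
  have ht0 : t ≠ 0 := fun h => hne (by rw [← ht, h, zero_pow hN.ne'])
  let M : Matrix (Fin N) (Fin N) K := t⁻¹ • Matrix.of fun i j => Ξ (GLn.X i j)
  have hM : M.det = 1 := by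
    rw [Matrix.det_smul, Fintype.card_fin, show (Matrix.of fun i j => Ξ (GLn.X i j)).det = Ξ GLn.det by
      rw [GLn.det_eq, AlgHom.map_det]; rfl, ← ht, ← mul_pow, inv_mul_cancel₀ ht0, one_pow]
  refine ⟨t, SLn.pt N k M hM, ht0, ht, fun i j => ?_⟩
  rw [SLn.pt_X]
  simp [M, ht0]

end Scaling

variable [IsAlgClosed k]

lemma finiteType_GL : Algebra.FiniteType k (GLn N k) := by
  haveI : Algebra.FiniteType k (GLb N k) :=
    inferInstanceAs (Algebra.FiniteType k (MvPolynomial (GLPoly.Idx N) k))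
  exact Algebra.FiniteType.of_surjective (GLn.mk N k) Ideal.Quotient.mk_surjective

/-- Finitely many points give a finite stabiliser scheme. -/
theorem hasFiniteStab_of_finStab {A : Type u} [CommRing A] [HopfAlgebra k A] [Algebra.FiniteType k A]
    {R : Type u} [CommRing R] [Algebra k R] [HopfRep.Comod k A R] [GLin.IsCoactAlg k A R] {x : R →ₐ[k] k}
    (h : FinStab A x) : GLin.HasFiniteStab k A x := by
  classical
  set I := GLin.stabIdeal k A x
  show Module.Finite k (A ⧸ I)
  haveI : Algebra.FiniteType k (A ⧸ I) :=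
    Algebra.FiniteType.of_surjective (Ideal.Quotient.mkₐ k I) Ideal.Quotient.mk_surjective
  haveI : IsNoetherianRing (A ⧸ I) := Algebra.FiniteType.isNoetherianRing k _
  haveI : IsJacobsonRing (A ⧸ I) := isJacobsonRing_of_finiteType (A := k)
  have hpts : {χ : A ⧸ I →ₐ[k] k | True}.Finite := by
    refine ((h.image fun g => g.ofConv).preimage (f := fun χ => χ.comp (Ideal.Quotient.mkₐ k I))
      fun χ _ χ' _ e => Ideal.Quotient.algHom_ext k e).subset fun χ _ => ?_
    refine ⟨toConv (χ.comp (Ideal.Quotient.mkₐ k I)), AlgHom.ext fun f => ?_, rfl⟩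
    have hm : f - algebraMap k R (x f) ∈ RingHom.ker x := by simp
    have h0 : Ideal.Quotient.mkₐ k I (GLin.orbitHom k A x (f - algebraMap k R (x f))) = 0 :=
      Ideal.Quotient.eq_zero_iff_mem.2 (Ideal.mem_map_of_mem _ hm)
    rw [map_sub, AlgHom.commutes, map_sub, AlgHom.commutes, sub_eq_zero] at h0
    rw [mv_apply]
    show χ (Ideal.Quotient.mkₐ k I (GLin.orbitHom k A x f)) = x f
    rw [h0, AlgHom.commutes]
    rfl
  have hmax : {M : Ideal (A ⧸ I) | M.IsMaximal}.Finite := by
    refine (hpts.image fun χ => RingHom.ker χ).subset fun M hM => ?_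
    haveI : M.IsMaximal := hM
    obtain ⟨χ, hχ⟩ := FreeOrbH28.exists_point_of_isMaximal (k := k) M
    exact ⟨χ, trivial, hχ⟩
  rw [Module.finite_iff_isArtinianRing k, isArtinianRing_iff_isNoetherianRing_krullDimLE_zero]
  refine ⟨inferInstance, Ring.KrullDimLE.mk₀ fun P hP => ?_⟩
  haveI := hP
  have hJ : P.jacobson = P := IsJacobsonRing.out inferInstance hP.isRadical
  let s := hmax.toFinset.filter (P ≤ ·)
  have hinf : s.inf id ≤ P := fun y hy => by
    rw [← hJ, Ideal.jacobson, Ideal.mem_sInf]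
    rintro M ⟨hPM, hM⟩
    exact (Finset.inf_le (f := id) (Finset.mem_filter.2 ⟨hmax.mem_toFinset.2 hM, hPM⟩) : s.inf id ≤ M) hy
  obtain ⟨M, hM, hMP⟩ := (Ideal.IsPrime.inf_le' hP).1 hinf
  rw [Finset.mem_filter] at hM
  exact (le_antisymm hM.2 hMP : P = M) ▸ hmax.mem_toFinset.1 hM.1

/-- Scalars move within closures. -/
lemma inOrbitClosure_smul {a b : FormIdx N d → k} (c : k)
    (h : @GLin.InOrbitClosure k _ (SLn N k) _ _ (FormRing k N d) _ _ (cF N d k) (hcF N d k)
      (GLin.vecPt k _ a) (GLin.vecPt k _ b)) :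
    @GLin.InOrbitClosure k _ (SLn N k) _ _ (FormRing k N d) _ _ (cF N d k) (hcF N d k)
      (GLin.vecPt k _ (c • a)) (GLin.vecPt k _ (c • b)) := by
  let σc : FormRing k N d →ₐ[k] FormRing k N d := aeval fun m => c • X m
  have h1 : ∀ v : FormIdx N d → k, GLin.vecPt k _ (c • v) = (GLin.vecPt k _ v).comp σc := fun v =>
    MvPolynomial.algHom_ext fun m => by simp [GLin.vecPt, σc]
  have h2 : ∀ v : FormIdx N d → k, orb (c • v) = (orb v).comp σc := fun v => by
    refine MvPolynomial.algHom_ext fun m => ?_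
    rw [AlgHom.comp_apply, show σc (X m) = c • X m from aeval_X _ m, map_smul, orb_X, orb_X, Finset.smul_sum]
    simp [smul_smul]
  intro f hf
  rw [RingHom.mem_ker] at hf ⊢
  rw [h1 b, AlgHom.comp_apply]
  refine RingHom.mem_ker.1 (h (RingHom.mem_ker.2 ?_))
  exact (AlgHom.congr_fun (h2 a) f).symm.trans hf

variable [CharZero k]

/-- A non-zero stable form is semistable. -/
theorem semistable_of_stable {a : FormIdx N d → k} (ha : a ≠ 0)
    (hst : @GLin.IsStableVec k _ (SLn N k) _ _ (FormIdx N d) (cF N d k) (hcF N d k) a) :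
    @GLin.IsSemistableVec k _ (SLn N k) _ _ (FormIdx N d) (cF N d k) (hcF N d k) a := by
  classical
  letI := cF N d k
  haveI := hcF N d k
  haveI := finiteType_SL (k := k) (N := N)
  intro hnull
  have hzero : ∀ m, orb (0 : FormIdx N d → k) (X m) = 0 := fun m => by rw [orb_X]; simp
  have hinv : (GLin.vecPt k _ a).comp (GLin.invariants k (SLn N k) (FormRing k N d)).val =
      (GLin.vecPt k _ (0 : FormIdx N d → k)).comp (GLin.invariants k (SLn N k) (FormRing k N d)).val := by
    refine AlgHom.ext fun ⟨F, hF⟩ => ?_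
    show aeval a F = aeval (0 : FormIdx N d → k) F
    have hcomp : ∀ j, homogeneousComponent j F ∈ GLin.invariants k (SLn N k) (FormRing k N d) := by
      intro j
      show HopfRep.Comod.coact (k := k) (A := SLn N k) (homogeneousComponent j F) = _ ⊗ₜ[k] (1 : SLn N k)
      refine RayType28.eq_of_forall_slice fun z => ?_
      obtain ⟨v, rfl⟩ : ∃ v, GLin.vecPt k (FormIdx N d) v = z :=
        ⟨fun m => z (X m), MvPolynomial.algHom_ext fun m => by simp [GLin.vecPt]⟩
      rw [← Comodule.orbitHom_apply]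
      simp only [LinearMap.rTensor_tmul, TensorProduct.lid_tmul]
      refine FreeOrbH28.ext_points (k := k) fun s => ?_
      rw [map_smul, map_one, smul_eq_mul, mul_one]
      show s (orb v (homogeneousComponent j F)) = aeval v (homogeneousComponent j F)
      rw [apply_eq_eval', Algebra.algebraMap_self, MvPolynomial.map_id, MvPolynomial.aeval_eq_eval]
      set w : FormIdx N d → k := fun m => s (orb v (X m))
      have hval : ∀ c : k, eval (c • w) F = eval (c • v) F := fun c => by
        have hw : c • w = fun m => s (orb (c • v) (X m)) := by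
          funext m
          simp [w, orb_X, map_sum, Finset.mul_sum, mul_assoc]
        have h := apply_eq_eval' (K := k) s (c • v) F
        rw [Algebra.algebraMap_self, MvPolynomial.map_id, orb_invariant hF, AlgHom.commutes,
          Algebra.algebraMap_self, RingHom.id_apply] at h
        rw [hw]
        exact h.symm
      let P : (FormIdx N d → k) → Polynomial k := fun u =>
        ∑ i ∈ Finset.range (F.totalDegree + 1), Polynomial.C (eval u (homogeneousComponent i F)) * Polynomial.X ^ i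
      have hP : ∀ u c, (P u).eval c = eval (c • u) F := fun u c => by
        conv_rhs => rw [← sum_homogeneousComponent F]
        simp only [P, Polynomial.eval_finset_sum, map_sum, Polynomial.eval_mul, Polynomial.eval_C,
          Polynomial.eval_pow, Polynomial.eval_X]
        exact Finset.sum_congr rfl fun i _ => by
          rw [eval_smul_of_isHomogeneous (homogeneousComponent_isHomogeneous i F), mul_comm]
      have hPeq : P w = P v := Polynomial.funext fun c => by rw [hP, hP, hval]
      by_cases hj : j ≤ F.totalDegree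
      · have := congrArg (fun q => Polynomial.coeff q j) hPeq
        simpa [P, Nat.lt_succ_iff, hj] using this
      · rw [homogeneousComponent_eq_zero _ _ (not_le.1 hj)]
        simp
    have hsum := sum_homogeneousComponent F
    rw [← hsum]
    simp only [map_sum]
    refine Finset.sum_congr rfl fun j _ => ?_
    rcases Nat.eq_zero_or_pos j with rfl | hj
    · rw [homogeneousComponent_zero]; simp
    · rw [MvPolynomial.aeval_eq_eval, hnull _ (hcomp j) j hj (homogeneousComponent_isHomogeneous j F),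
        MvPolynomial.aeval_eq_eval, show (0 : FormIdx N d → k) = (0 : k) • a by simp,
        eval_smul_of_isHomogeneous (homogeneousComponent_isHomogeneous j F), zero_pow hj.ne', zero_mul]
  obtain ⟨z, hz, hz0⟩ := (S19602.result k (SLn N k) GLRed28.isLinearlyReductive_SLn _ _ _).1 hinv
  obtain ⟨g, hg⟩ := (closed_iff_isClosedOrbit _).2 hst.1 z hz
  have hz_eq : z = GLin.vecPt k _ (0 : FormIdx N d → k) := by
    refine MvPolynomial.algHom_ext fun m => ?_
    have := RingHom.mem_ker.1 (hz0 (RingHom.mem_ker.2 (hzero m)))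
    simpa [GLin.vecPt] using this
  refine ha (funext fun m => ?_)
  have h2 := congrArg (mv g⁻¹) (hg.trans hz_eq)
  rw [mv_inv_mv] at h2
  have h3 := AlgHom.congr_fun h2 (X m)
  rw [mv_apply, show GLin.orbitHom k (SLn N k) (GLin.vecPt k _ (0 : FormIdx N d → k)) (X m) = 0 from hzero m,
    map_zero] at h3
  simpa [GLin.vecPt] using h3

lemma eq_scal_mul {g : Pts k (GLn N k)} {t : k} {s : SLn N k →ₐ[k] k} (ht : t ≠ 0)
    (hX : ∀ i j, g.ofConv (GLn.X i j) = t * s (SLn.X i j)) :
    g = RayType28.scal N (Units.mk0 t ht) * RayType28.fromSL s :=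
  RayType28.pts_ext fun i j => by rw [hX, RayType28.scal_mul_X]; rfl

/-- Finiteness of the stabiliser in the general linear group. -/
theorem finStab_GL (hd : 1 ≤ d) (hN : 0 < N) {a : FormIdx N d → k} {F : FormRing k N d} {j : ℕ}
    (hj : 0 < j) (hFh : F.IsHomogeneous j)
    (hF : @HopfRep.Comod.coact k (SLn N k) _ _ _ _ (FormRing k N d) _ _ (cF N d k) F = F ⊗ₜ[k] (1 : SLn N k))
    (hFa : eval a F ≠ 0) (hfin : @FinStab k _ (FormRing k N d) _ _ (SLn N k) _ _ (cF N d k) (hcF N d k)
      (GLin.vecPt k _ a)) :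
    @FinStab k _ (FormRing k N d) _ _ (GLn N k) _ _ (cG N d k) (hcG N d k) (GLin.vecPt k _ a) := by
  classical
  letI := cG N d k
  haveI := hcG N d k
  choose t s ht htN hX using fun g : Pts k (GLn N k) => exists_sl_part hN g.ofConv
  have hroot : {t : k | t ^ (d * j) = 1}.Finite :=
    (Polynomial.nthRoots (d * j) (1 : k)).toFinset.finite_toSet.subset fun t ht => by
      simp only [Finset.mem_coe, Multiset.mem_toFinset, Polynomial.mem_nthRoots (Nat.mul_pos hd hj)]
      exact ht
  have hsub : ∀ g : Pts k (GLn N k), mv g (GLin.vecPt k _ a) = GLin.vecPt k _ a →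
      t g ^ (d * j) = 1 ∧ ∀ m, t g ^ d * s g (orb a (X m)) = a m := by
    intro g hg
    constructor
    · have h := apply_invariant hFh hF (a := a) (t g) g.ofConv (s g) (hX g)
      rw [show g.ofConv (orbG a F) = eval a F from
        (AlgHom.congr_fun hg F).trans (by simp [GLin.vecPt, MvPolynomial.aeval_eq_eval]),
        Algebra.algebraMap_self, RingHom.id_apply] at h
      exact mul_right_cancel₀ hFa (h.symm.trans (one_mul _).symm)
    · intro m
      rw [← moved_scal (t g) g.ofConv (s g) (hX g)]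
      exact (AlgHom.congr_fun hg (X m)).trans (by simp [GLin.vecPt])
  have hS : ∀ c : k, c ≠ 0 → {σ : Pts k (SLn N k) | ∀ m, c * σ.ofConv (orb a (X m)) = a m}.Finite := by
    intro c hc
    letI := cF N d k
    haveI := hcF N d k
    rcases Set.eq_empty_or_nonempty {σ : Pts k (SLn N k) | ∀ m, c * σ.ofConv (orb a (X m)) = a m} with h | ⟨σ₀, hσ₀⟩
    · rw [h]; exact Set.finite_empty
    refine (hfin.image fun τ => τ * σ₀).subset fun σ hσ => ⟨σ * σ₀⁻¹, ?_, by group⟩
    show mv (σ * σ₀⁻¹) (GLin.vecPt k _ a) = GLin.vecPt k _ a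
    have e : mv σ (GLin.vecPt k _ a) = mv σ₀ (GLin.vecPt k _ a) := MvPolynomial.algHom_ext fun m => by
      rw [mv_apply, mv_apply]
      exact mul_left_cancel₀ hc ((hσ m).trans (hσ₀ m).symm)
    rw [← mv_mv, e, mv_inv_mv]
  refine (Set.Finite.image (fun q : k × Pts k (SLn N k) => if h : q.1 = 0 then (1 : Pts k (GLn N k)) else
      RayType28.scal N (Units.mk0 q.1 h) * RayType28.fromSL q.2.ofConv)
    (s := {q : k × Pts k (SLn N k) | q.1 ^ (d * j) = 1 ∧ ∀ m, q.1 ^ d * q.2.ofConv (orb a (X m)) = a m}) ?_).subset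
      fun g hg => ⟨(t g, toConv (s g)), hsub g hg, ?_⟩
  · refine (hroot.biUnion fun c hc => ((Set.finite_singleton c).prod (hS (c ^ d) (pow_ne_zero _ fun h0 => by
      rw [Set.mem_ofPred_eq, h0, zero_pow (Nat.mul_pos hd hj).ne'] at hc
      exact zero_ne_one hc)))).subset ?_
    rintro ⟨c, σ⟩ ⟨h1, h2⟩
    exact Set.mem_iUnion₂.2 ⟨c, h1, ⟨rfl, h2⟩⟩
  · simp only [dif_neg (ht g)]
    exact (eq_scal_mul (ht g) (hX g)).symm

/-- Points of the closure of the orbit in the open set lie in the orbit. -/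
theorem mem_orbit_of_mem_closure (hd : 1 ≤ d) (hN : 0 < N) {a : FormIdx N d → k} {F : FormRing k N d} {j : ℕ}
    (hj : 0 < j) (hFh : F.IsHomogeneous j)
    (hF : @HopfRep.Comod.coact k (SLn N k) _ _ _ _ (FormRing k N d) _ _ (cF N d k) F = F ⊗ₜ[k] (1 : SLn N k))
    (hFa : eval a F ≠ 0)
    (hclosed : @Closed k _ (FormRing k N d) _ _ (SLn N k) _ _ (cF N d k) (hcF N d k) (GLin.vecPt k _ a))
    (z : FormRing k N d →ₐ[k] k)
    (hz : @GLin.InOrbitClosure k _ (GLn N k) _ _ (FormRing k N d) _ _ (cG N d k) (hcG N d k) (GLin.vecPt k _ a) z)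
    (hzF : z F ≠ 0) : ∃ g : GLn N k →ₐ[k] k, g.comp (orbG a) = z := by
  classical
  obtain ⟨K, _, _, _, V, res, ω, halg, hker, hext⟩ := exists_place_algClosed (orbG a) z hz
  choose hmem hres using hext
  choose halgV halgres using halg
  obtain ⟨t, Ξ', ht, -, hX⟩ := exists_sl_part hN ω
  have hvF : V.valuation (ω (orbG a F)) = 1 := by
    have hu : IsUnit (⟨_, hmem F⟩ : V) := by
      by_contra hu
      refine hzF ?_
      rw [← hres F]
      exact RingHom.mem_ker.1 (hker ▸ (IsLocalRing.mem_maximalIdeal _).2 hu)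
    exact (V.valuation_eq_one_iff _).1 hu
  rw [apply_invariant hFh hF t ω Ξ' hX, map_mul, map_pow,
    show V.valuation (algebraMap k K (eval a F)) = 1 from (V.valuation_eq_one_iff ⟨_, halgV _⟩).1 (by
      by_contra hu
      exact hFa ((halgres _).symm.trans (RingHom.mem_ker.1 (hker ▸ (IsLocalRing.mem_maximalIdeal _).2 hu)))),
    mul_one] at hvF
  have hvt : V.valuation t = 1 := (pow_eq_one_iff_of_nonneg zero_le (Nat.mul_pos hd hj).ne').1 hvF
  have htV : t ∈ V := (V.valuation_le_one_iff _).1 hvt.le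
  have hint : ∀ m, Ξ' (orb a (X m)) ∈ V := fun m => by
    refine (V.valuation_le_one_iff _).1 ?_
    have h := V.valuation_le_one ⟨_, hmem (X m)⟩
    simp only [moved_scal t ω Ξ' hX, map_mul, map_pow, hvt, one_pow, one_mul] at h
    exact h
  let b : FormIdx N d → k := fun m => res ⟨_, hint m⟩
  let resA : V →+* k := res
  have hb : @GLin.InOrbitClosure k _ (SLn N k) _ _ (FormRing k N d) _ _ (cF N d k) (hcF N d k)
      (GLin.vecPt k _ a) (GLin.vecPt k _ b) := by
    intro f hf
    rw [RingHom.mem_ker] at hf ⊢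
    have h0 : eval (fun m => (⟨_, hint m⟩ : V))
        (MvPolynomial.map ((algebraMap k K).codRestrict V.toSubring halgV) f) = 0 := by
      apply Subtype.ext
      show algebraMap V K _ = 0
      rw [eval_map, eval₂_comp_left, ← eval_map]
      have := apply_eq_eval' Ξ' a f
      rw [show orb a f = 0 from hf, map_zero] at this
      exact this.symm
    have h1 := congrArg resA h0
    rw [map_zero, eval_map, eval₂_comp_left,
      show resA.comp ((algebraMap k K).codRestrict V.toSubring halgV) = RingHom.id k from RingHom.ext halgres] at h1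
    show aeval b f = 0
    rw [aeval_def, Algebra.algebraMap_self]
    exact h1
  obtain ⟨s, hs⟩ := hclosed _ hb
  have ht0 : res ⟨t, htV⟩ ≠ 0 := fun h0 => by
    have : (⟨t, htV⟩ : V) ∈ IsLocalRing.maximalIdeal V := hker ▸ RingHom.mem_ker.2 h0
    exact ((V.valuation_lt_one_iff _).1 this).ne hvt
  refine ⟨(RayType28.scal N (Units.mk0 _ ht0) * RayType28.fromSL s.ofConv).ofConv,
    MvPolynomial.algHom_ext fun m => ?_⟩
  rw [AlgHom.comp_apply, moved_scal (res ⟨t, htV⟩) _ s.ofConv
    (fun i l => by rw [RayType28.scal_mul_X]; rfl), ← hres (X m)]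
  have hsm : s.ofConv (orb a (X m)) = b m := by
    have := AlgHom.congr_fun hs (X m)
    exact this.trans (aeval_X _ m)
  rw [hsm, ← map_pow, ← map_mul]
  exact congrArg res (Subtype.ext (moved_scal t ω Ξ' hX a m).symm)

/-- Closedness in the open set, on primes. -/
theorem mem_range_of_mem_closure {a : FormIdx N d → k} {F : FormRing k N d}
    (H : ∀ z : FormRing k N d →ₐ[k] k,
      RingHom.ker (orbG a) ≤ RingHom.ker z → z F ≠ 0 → ∃ g : GLn N k →ₐ[k] k, g.comp (orbG a) = z)
    (p : PrimeSpectrum (FormRing k N d)) (hp : p ∈ closure (Set.range (PrimeSpectrum.comap (orbG a).toRingHom)))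
    (hFp : F ∉ p.asIdeal) : p ∈ Set.range (PrimeSpectrum.comap (orbG a).toRingHom) := by
  haveI := finiteType_GL (k := k) (N := N)
  haveI : IsNoetherianRing (FormRing k N d) := Algebra.FiniteType.isNoetherianRing k _
  set φ := orbG a
  have hfp : φ.toRingHom.FinitePresentation := by
    refine RingHom.FinitePresentation.of_finiteType.1 ?_
    letI : Algebra (FormRing k N d) (GLn N k) := φ.toRingHom.toAlgebra
    haveI : IsScalarTower k (FormRing k N d) (GLn N k) := IsScalarTower.of_algHom φ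
    exact RingHom.finiteType_algebraMap.2 (Algebra.FiniteType.of_restrictScalars_finiteType k (FormRing k N d) (GLn N k))
  rw [PrimeSpectrum.closure_range_comap] at hp
  obtain ⟨U, hU, hpU, hUC⟩ := exists_open_of_isConstructible (PrimeSpectrum.isConstructible_range_comap hfp) p
  rcases hUC with h | h
  · exact h p hpU specializes_rfl
  exfalso
  obtain ⟨_, ⟨_, ⟨D, rfl⟩, rfl⟩, hD, hDU⟩ := PrimeSpectrum.isBasis_basic_opens.exists_subset_of_mem_open hpU hU
  obtain ⟨w, hpw, hwD⟩ := exists_point_of_notMem (k := k) (P := p.asIdeal) (d := D * F)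
    (fun hm => (p.isPrime.mem_or_mem hm).elim hD hFp)
  rw [map_mul, mul_ne_zero_iff] at hwD
  obtain ⟨g, hg⟩ := H w (fun f hf => hpw (hp hf)) hwD.2
  refine h ⟨RingHom.ker w, inferInstance⟩ (hDU hwD.1) ((PrimeSpectrum.le_iff_specializes _ _).1 hpw)
    ⟨⟨RingHom.ker g, inferInstance⟩, PrimeSpectrum.ext ?_⟩
  ext f
  show φ f ∈ RingHom.ker g ↔ f ∈ RingHom.ker w
  rw [← hg]; simp [RingHom.mem_ker, φ]

/-- The finite stabiliser in the special linear group from the one in the general linear group. -/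
theorem finStab_SL_of_GL {a : FormIdx N d → k}
    (h : @FinStab k _ (FormRing k N d) _ _ (GLn N k) _ _ (cG N d k) (hcG N d k) (GLin.vecPt k _ a)) :
    @FinStab k _ (FormRing k N d) _ _ (SLn N k) _ _ (cF N d k) (hcF N d k) (GLin.vecPt k _ a) := by
  letI := cF N d k
  haveI := hcF N d k
  refine (h.preimage (f := fun σ : Pts k (SLn N k) => RayType28.fromSL σ.ofConv) fun σ _ τ _ e =>
    WithConv.ofConv_injective (sl_algHom_ext fun i j =>
      congrArg (fun q : Pts k (GLn N k) => q.ofConv (GLn.X i j)) e)).subset fun σ hσ => ?_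
  show @mv k _ (GLn N k) _ _ (FormRing k N d) _ _ (cG N d k) (hcG N d k) _ _ = _
  refine AlgHom.ext fun f => ?_
  show σ.ofConv (SLn.mkHom N k (orbG a f)) = _
  rw [show SLn.mkHom N k (orbG a f) = orb a f from (AlgHom.congr_fun (orb_eq_orbG a) f).symm]
  exact AlgHom.congr_fun hσ f

/-- Closedness of the orbit of the special linear group. -/
theorem closed_SL_of_GL (hd : 1 ≤ d) (hN : 0 < N) {a : FormIdx N d → k} {F : FormRing k N d} {j : ℕ}
    (hj : 0 < j) (hFh : F.IsHomogeneous j)
    (hF : @HopfRep.Comod.coact k (SLn N k) _ _ _ _ (FormRing k N d) _ _ (cF N d k) F = F ⊗ₜ[k] (1 : SLn N k))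
    (hFa : eval a F ≠ 0)
    (H : ∀ z : FormRing k N d →ₐ[k] k,
      RingHom.ker (orbG a) ≤ RingHom.ker z → z F ≠ 0 → ∃ g : GLn N k →ₐ[k] k, g.comp (orbG a) = z) :
    @Closed k _ (FormRing k N d) _ _ (SLn N k) _ _ (cF N d k) (hcF N d k) (GLin.vecPt k _ a) := by
  classical
  letI := cF N d k
  haveI := hcF N d k
  haveI := finiteType_SL (k := k) (N := N)
  intro z hz
  have hzF : z F = eval a F := by
    have hm : F - algebraMap k _ (eval a F) ∈ RingHom.ker (orb a) := by
      rw [RingHom.mem_ker, map_sub, orb_invariant hF, AlgHom.commutes, sub_self]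
    have := RingHom.mem_ker.1 (hz hm)
    rwa [map_sub, AlgHom.commutes, Algebra.algebraMap_self, RingHom.id_apply, sub_eq_zero] at this
  obtain ⟨g, hg⟩ := H z (fun f hf => hz (RingHom.mem_ker.2 (by
    show orb a f = 0
    rw [orb_eq_orbG, AlgHom.comp_apply, RingHom.mem_ker.1 hf, map_zero]))) (hzF ▸ hFa)
  obtain ⟨t, s, ht, -, hX⟩ := exists_sl_part hN g
  have hζ : t ^ (d * j) = 1 := by
    have h := apply_invariant hFh hF (a := a) t g s hX
    rw [show g (orbG a F) = z F from AlgHom.congr_fun hg F, hzF, Algebra.algebraMap_self, RingHom.id_apply] at h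
    exact mul_right_cancel₀ hFa (h.symm.trans (one_mul _).symm)
  set ζ := t ^ d
  have hzeq : z = mv (toConv s) (GLin.vecPt k (FormIdx N d) (ζ • a)) := by
    refine MvPolynomial.algHom_ext fun m => ?_
    rw [mv_apply, ← hg, AlgHom.comp_apply, moved_scal t g s hX]
    show _ = s (orb (ζ • a) (X m))
    rw [orb_X, orb_X, map_sum, map_sum, Finset.mul_sum]
    exact Finset.sum_congr rfl fun l _ => by simp [ζ, mul_assoc]
  have hcl : GLin.InOrbitClosure k (SLn N k) (GLin.vecPt k _ a) (GLin.vecPt k (FormIdx N d) (ζ • a)) :=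
    inOrbitClosure_trans hz (by
      rw [hzeq]
      have := inOrbitClosure_mv (toConv s)⁻¹ (mv (toConv s) (GLin.vecPt k (FormIdx N d) (ζ • a)))
      rwa [mv_inv_mv] at this)
  have hpow : ∀ i : ℕ, GLin.InOrbitClosure k (SLn N k) (GLin.vecPt k (FormIdx N d) (ζ • a))
      (GLin.vecPt k (FormIdx N d) ((ζ ^ (i + 1)) • a)) := by
    intro i
    induction i with
    | zero => rw [zero_add, pow_one]; exact Groth.Agent.Comodule.inOrbitClosure_self _
    | succ i ih =>
      refine inOrbitClosure_trans ih ?_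
      have := inOrbitClosure_smul (ζ ^ (i + 1)) hcl
      rwa [smul_smul, ← pow_succ] at this
  have hback := hpow (j - 1)
  rw [Nat.sub_add_cancel hj, ← pow_mul, hζ, one_smul] at hback
  obtain ⟨g', hg'⟩ := exists_mv_eq_of_mutual hcl hback
  exact ⟨g' * toConv s, by rw [← mv_mv, hg', ← hzeq]⟩

end Groth.Agent.FormSub28
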