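import Groth.Prelude.Def_GLin6
import Groth.Agent.Lib.GLRed28.Apolar
import Groth.Agent.Lib.RayType28.Basic
import Groth.Agent.Lib.OrbitH28.Dim

/-!
# Substitution in forms, read on points of the space of forms
-/

universe u

open TensorProduct MvPolynomial CoordGrp

noncomputable section

namespace Groth.Agent.FormSub28

variable {k : Type u} [Field k] {K : Type u} [Field K] [Algebra k K] {N d : ℕ}

lemma fac_mul_multinomial {F : Type u} [Field F] (m : FormIdx N d) :
    (GLRed28.fac m.1 : F) * (m.1.multinomial : F) = (d.factorial : F) := by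
  rw [GLRed28.fac, ← Nat.cast_mul, Finsupp.multinomial_eq_of_support_subset (Finset.subset_univ _),
    Nat.multinomial_spec, ← Finsupp.degree_eq_sum, m.2]

lemma multinomial_ne_zero {F : Type u} [Field F] (hd : (d.factorial : F) ≠ 0) (m : FormIdx N d) :
    (m.1.multinomial : F) ≠ 0 := fun h => hd (by rw [← fac_mul_multinomial m, h, mul_zero])

lemma formPoly_injective (hd : (d.factorial : k) ≠ 0) :
    Function.Injective (formPoly : (FormIdx N d → k) → MvPolynomial (Fin N) k) := by
  intro a b h
  funext m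
  have := congrArg (coeff m.1) h
  rw [coeff_formPoly, coeff_formPoly] at this
  exact mul_left_cancel₀ (multinomial_ne_zero hd m) this

lemma isHomogeneous_formPoly (a : FormIdx N d → k) : (formPoly a).IsHomogeneous d :=
  IsHomogeneous.sum _ _ _ fun m _ => isHomogeneous_monomial _ m.2

/-- Substitution by a matrix: `x_i ↦ Σ_j M i j x_j`. -/
abbrev subM (M : Matrix (Fin N) (Fin N) K) : MvPolynomial (Fin N) K →ₐ[K] MvPolynomial (Fin N) K :=
  GLRed28.sub fun i j => M i j

/-- Evaluation of a coaction coefficient at a point. -/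
def T (Ξ : Mat N k →ₐ[k] K) : MvPolynomial (Fin N) k ⊗[k] Mat N k →ₐ[k] MvPolynomial (Fin N) K :=
  Algebra.TensorProduct.lift (mapAlgHom (Algebra.ofId k K))
    ((IsScalarTower.toAlgHom k K (MvPolynomial (Fin N) K)).comp Ξ) fun _ _ => Commute.all _ _

lemma coeff_T (Ξ : Mat N k →ₐ[k] K) (l : Fin N →₀ ℕ) (w : MvPolynomial (Fin N) k ⊗[k] Mat N k) :
    coeff l (T Ξ w) = Ξ (coeffT (k := k) l w) := by
  induction w with
  | zero => simp
  | add p q hp hq => simp only [map_add, coeff_add, hp, hq]
  | tmul p a =>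
    rw [T, Algebra.TensorProduct.lift_tmul, coeffT_tmul, map_smul, AlgHom.comp_apply,
      IsScalarTower.coe_toAlgHom', MvPolynomial.algebraMap_eq, mul_comm, coeff_C_mul]
    simp [Algebra.smul_def, coeff_map, mul_comm]

/-- The matrix of a point. -/
def mat (Ξ : Mat N k →ₐ[k] K) : Matrix (Fin N) (Fin N) K := fun i j => Ξ (Mat.X i j)

lemma apply_formCoeff (Ξ : Mat N k →ₐ[k] K) (l m : FormIdx N d) :
    Ξ (formCoeff k N d l m) = coeff l.1 (subM (mat Ξ).transpose (monomial m.1 (1 : K))) := by
  rw [formCoeff, ← coeff_T]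
  have h : (T Ξ).comp (stdCoactAlg N k) =
      ((subM (mat Ξ).transpose).restrictScalars k).comp (mapAlgHom (Algebra.ofId k K)) := by
    refine MvPolynomial.algHom_ext fun i => ?_
    simp only [AlgHom.comp_apply, stdCoactAlg_X, map_sum, T, Algebra.TensorProduct.lift_tmul]
    simp [subM, GLRed28.sub, mat, mul_comm]
  have h2 := AlgHom.congr_fun h (monomial m.1 (1 : k))
  simp only [AlgHom.comp_apply] at h2
  rw [h2]
  simp

/-- The form of a moved point. -/
theorem formPoly_moved (hd : (d.factorial : k) ≠ 0) (Ξ : Mat N k →ₐ[k] K) (a : FormIdx N d → k) :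
    formPoly (fun m => ∑ l : FormIdx N d, algebraMap k K (a l) * Ξ (formCoeff k N d l m)) =
      subM (mat Ξ) (MvPolynomial.map (algebraMap k K) (formPoly a)) := by
  have hd' : (d.factorial : K) ≠ 0 := by
    rw [← map_natCast (algebraMap k K)]
    exact (map_ne_zero _).2 hd
  have hR : subM (mat Ξ) (MvPolynomial.map (algebraMap k K) (formPoly a)) =
      ∑ l : FormIdx N d, ((l.1.multinomial : K) * algebraMap k K (a l)) • subM (mat Ξ) (monomial l.1 (1 : K)) := by
    simp only [formPoly, map_sum]
    refine Finset.sum_congr rfl fun l _ => ?_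
    rw [MvPolynomial.map_monomial, map_mul, map_natCast, ← map_smul, smul_monomial, smul_eq_mul, mul_one]
  rw [hR]
  refine MvPolynomial.ext _ _ fun j => ?_
  by_cases hj : j.degree = d
  · rw [show j = (⟨j, hj⟩ : FormIdx N d).1 from rfl, coeff_formPoly, coeff_sum, Finset.mul_sum]
    refine Finset.sum_congr rfl fun l _ => ?_
    rw [coeff_smul, smul_eq_mul, apply_formCoeff]
    set m : FormIdx N d := ⟨j, hj⟩
    have h := GLRed28.pair_sub (fun i j => mat Ξ i j) (monomial m.1 (1 : K)) (monomial l.1 (1 : K))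
    have hp : ∀ (q : MvPolynomial (Fin N) K) (β : Fin N →₀ ℕ),
        GLRed28.pair (monomial β (1 : K)) q = GLRed28.fac β * coeff β q := by
      intro q β
      rw [GLRed28.pair_apply]
      simp only [coeff_monomial, mul_ite, mul_one, mul_zero, Finset.sum_ite_eq]
      split_ifs with hβ
      · ring
      · rw [notMem_support_iff.1 hβ, mul_zero]
    rw [hp, GLRed28.pair_monomial, one_mul] at h
    apply mul_left_cancel₀ hd'
    calc (d.factorial : K) * ((m.1.multinomial : K) * (algebraMap k K (a l) *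
          coeff l.1 (subM (mat Ξ).transpose (monomial m.1 (1 : K)))))
        = (m.1.multinomial : K) * (l.1.multinomial : K) * algebraMap k K (a l) *
          (GLRed28.fac l.1 * coeff l.1 (subM (mat Ξ).transpose (monomial m.1 (1 : K)))) := by
          rw [← fac_mul_multinomial l]; ring
      _ = (m.1.multinomial : K) * (l.1.multinomial : K) * algebraMap k K (a l) *
          (GLRed28.fac m.1 * coeff m.1 (subM (mat Ξ) (monomial l.1 (1 : K)))) := by
          rw [show GLRed28.fac l.1 * coeff l.1 (subM (mat Ξ).transpose (monomial m.1 (1 : K))) =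
            GLRed28.fac m.1 * coeff m.1 (subM (mat Ξ) (monomial l.1 (1 : K))) from h.symm]
      _ = _ := by rw [← fac_mul_multinomial m]; ring
  · rw [(isHomogeneous_formPoly _).coeff_eq_zero hj, coeff_sum, Finset.sum_eq_zero fun l _ => ?_]
    rw [coeff_smul, (GLRed28.isHomogeneous_sub _ (isHomogeneous_monomial 1 l.2)).coeff_eq_zero hj, smul_zero]

/-- The linear form with given coefficients. -/
def lin {R : Type u} [CommRing R] (q : Fin N → R) : MvPolynomial (Fin N) R := ∑ j, C (q j) * X j

lemma subM_lin (M : Matrix (Fin N) (Fin N) K) (q : Fin N → K) : subM M (lin q) = lin (Matrix.vecMul q M) := by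
  simp only [lin, map_sum, map_mul, subM, GLRed28.sub, aeval_X, aeval_C, algebraMap_eq, Matrix.vecMul,
    dotProduct, Finset.mul_sum, Finset.sum_mul]
  rw [Finset.sum_comm]
  simp [mul_assoc]

section SL

/-- The action of `SL` on forms. -/
abbrev φM (N : ℕ) (k : Type u) [Field k] : Mat N k →ₐc[k] SLn N k := (SLn.mkHom N k).comp (Mat.toGLn N k)

/-- The comodule. -/
abbrev cF (N d : ℕ) (k : Type u) [Field k] : HopfRep.Comod k (SLn N k) (FormRing k N d) :=
  GLin.comodAlong (φM N k) (formsCoact k N d)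

lemma hcF (N d : ℕ) (k : Type u) [Field k] :
    @GLin.IsCoactAlg k _ (SLn N k) _ _ (FormRing k N d) _ _ (cF N d k) :=
  GLin.isCoactAlg_comodAlong (φM N k) (formsCoact k N d) (formsCoact_isCoactAlg k N d)

/-- The orbit map of a form. -/
abbrev orb (a : FormIdx N d → k) : FormRing k N d →ₐ[k] SLn N k :=
  @GLin.orbitHom k _ (SLn N k) _ _ (FormRing k N d) _ _ (cF N d k) (hcF N d k) (GLin.vecPt k _ a)

lemma orb_X (a : FormIdx N d → k) (m : FormIdx N d) :
    orb a (X m) = ∑ l : FormIdx N d, a l • φM N k (formCoeff k N d l m) := by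
  show TensorProduct.lid k _ (TensorProduct.map (GLin.vecPt k _ a).toLinearMap LinearMap.id
    (TensorProduct.map LinearMap.id (φM N k : Mat N k →ₗ[k] SLn N k) (formsCoactAlg k N d (X m)))) = _
  rw [formsCoactAlg_X]
  simp

lemma φM_X (i j : Fin N) : φM N k (Mat.X i j) = SLn.X i j := by
  show SLn.mk N k (Mat.toGLn N k (Mat.X i j)) = _
  rw [Mat.toGLn_X]
  rfl

/-- The form of a point in the orbit, with values in any field. -/
theorem formPoly_orb (hd : (d.factorial : k) ≠ 0) (a : FormIdx N d → k) (Ξ : SLn N k →ₐ[k] K) :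
    formPoly (fun m => Ξ (orb a (X m))) =
      subM (Matrix.of fun i j => Ξ (SLn.X i j)) (MvPolynomial.map (algebraMap k K) (formPoly a)) := by
  have h := formPoly_moved hd (Ξ.comp (φM N k : Mat N k →ₐ[k] SLn N k)) a
  have e : (fun m => Ξ (orb a (X m))) = fun m => ∑ l : FormIdx N d,
      algebraMap k K (a l) * (Ξ.comp (φM N k : Mat N k →ₐ[k] SLn N k)) (formCoeff k N d l m) := by
    funext m
    rw [orb_X, map_sum]
    exact Finset.sum_congr rfl fun l _ => by rw [map_smul, Algebra.smul_def]; rfl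
  rw [e, h]
  congr 2
  funext i j
  show Ξ (φM N k (Mat.X i j)) = Ξ (SLn.X i j)
  rw [φM_X]

/-- The same for a product of linear forms. -/
theorem formPoly_orb_prod (hd : (d.factorial : k) ≠ 0) {ι : Type} [Fintype ι] {a : FormIdx N d → k}
    {p : ι → Fin N → k} (ha : formPoly a = ∏ i, ∑ j, C (p i j) * X j) (Ξ : SLn N k →ₐ[k] K) :
    formPoly (fun m => Ξ (orb a (X m))) =
      ∏ i, lin (Matrix.vecMul (fun j => algebraMap k K (p i j)) (Matrix.of fun i j => Ξ (SLn.X i j))) := by
  rw [formPoly_orb hd, ha, map_prod, map_prod]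
  refine Finset.prod_congr rfl fun i _ => ?_
  rw [← subM_lin]
  congr 1
  simp [lin]

omit [Algebra k K] in
lemma mk_Dinv' : SLn.mk N k (GLn.Dinv : GLn N k) = 1 := by
  have h := congrArg (SLn.mk N k) (GLn.Dinv_mul_det (n := N) (k := k))
  rwa [map_mul, SLn.det_eq_one, mul_one, map_one] at h

lemma sl_algHom_ext {B : Type u} [CommRing B] [Algebra k B] {f g : SLn N k →ₐ[k] B}
    (h : ∀ i j, f (SLn.X i j) = g (SLn.X i j)) : f = g :=
  SLn.algHom_ext h (by rw [mk_Dinv', map_one, map_one])

lemma det_mat (Ξ : SLn N k →ₐ[k] K) : (Matrix.of fun i j => Ξ (SLn.X i j)).det = 1 := by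
  have h := congrArg Ξ (SLn.det_eq_one (n := N) (k := k))
  rw [map_one, GLn.det_eq, AlgHom.map_det, AlgHom.map_det] at h
  exact h

lemma adjoin_X_eq_top : Algebra.adjoin k (Set.range fun p : Fin N × Fin N => (SLn.X p.1 p.2 : SLn N k)) = ⊤ := by
  rw [eq_top_iff]
  intro y _
  obtain ⟨a, rfl⟩ := Ideal.Quotient.mkₐ_surjective k (GLn.slIdeal N k) y
  obtain ⟨b, rfl⟩ := Ideal.Quotient.mkₐ_surjective k (GLb.relIdeal N k) a
  change SLn.mk N k (GLn.mk N k b) ∈ _
  have H : ∀ b : MvPolynomial (GLPoly.Idx N) k, SLn.mk N k (GLn.mk N k b) ∈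
      Algebra.adjoin k (Set.range fun p : Fin N × Fin N => (SLn.X p.1 p.2 : SLn N k)) := by
    intro b
    induction b using MvPolynomial.induction_on with
    | C c =>
      rw [show GLn.mk N k (C c : MvPolynomial (GLPoly.Idx N) k) = algebraMap k _ c from (GLn.mk N k).commutes c,
        AlgHom.commutes]
      exact Subalgebra.algebraMap_mem _ c
    | add p q hp hq =>
      rw [show GLn.mk N k (p + q : MvPolynomial (GLPoly.Idx N) k) = GLn.mk N k p + GLn.mk N k q from map_add _ _ _,
        map_add]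
      exact add_mem hp hq
    | mul_X p i hp =>
      rw [show GLn.mk N k (p * X i : MvPolynomial (GLPoly.Idx N) k) = GLn.mk N k p * GLn.mk N k (X i) from
        map_mul _ _ _, map_mul]
      refine mul_mem hp ?_
      rcases i with ⟨i, j⟩ | _
      · exact Algebra.subset_adjoin ⟨(i, j), rfl⟩
      · rw [show SLn.mk N k (GLn.mk N k (X (Sum.inr ()) : MvPolynomial (GLPoly.Idx N) k)) = 1 from mk_Dinv']
        exact one_mem _
  exact H b

end SL

end Groth.Agent.FormSub28
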