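import Mathlib.Algebra.Order.GroupWithZero.Canonical
import Mathlib.Algebra.Order.BigOperators.GroupWithZero.Finset
import Mathlib.Algebra.BigOperators.Fin
import Mathlib.Tactic

/-!
# A majorisation inequality
-/

open Finset

namespace Groth.Agent.FormSub28

variable {Γ : Type*} [LinearOrderedCommGroupWithZero Γ]

lemma eq_prod_ratio (e : ℕ → Γ) (he : ∀ t, 0 < e t) (c : ℕ) :
    e c = e 0 * ∏ t ∈ range c, (e (t + 1) / e t) := by
  induction c with
  | zero => simp
  | succ c ih =>
    rw [prod_range_succ, ← mul_assoc, ← ih, mul_div_cancel₀ _ (he c).ne']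

lemma prod_eq_ratio (e : ℕ → Γ) (he : ∀ t, 0 < e t) {ι : Type*} (s : Finset ι) (c : ι → ℕ) (M : ℕ)
    (hc : ∀ i ∈ s, c i ≤ M) :
    ∏ i ∈ s, e (c i) = e 0 ^ s.card * ∏ t ∈ range M, (e (t + 1) / e t) ^ (s.filter (t < c ·)).card := by
  rw [prod_congr rfl fun i _ => eq_prod_ratio e he (c i), prod_mul_distrib, prod_const]
  congr 1
  rw [prod_congr rfl fun i hi => show ∏ t ∈ range (c i), (e (t + 1) / e t) =
    ∏ t ∈ range M, (if t < c i then e (t + 1) / e t else 1) by
      rw [← prod_filter]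
      congr 1
      ext t
      simp only [mem_range, mem_filter]
      exact ⟨fun h => ⟨h.trans_le (hc i hi), h⟩, fun h => h.2⟩, prod_comm]
  exact prod_congr rfl fun t _ => by rw [← prod_filter, prod_const]

/-- If the indices are more concentrated at the start, a decreasing sequence has the larger product. -/
theorem eq_one_of_counts {m M : ℕ} (e : ℕ → Γ) (he : ∀ t, 0 < e t) (hanti : ∀ t < M, e (t + 1) ≤ e t)
    (hprod : ∏ t ∈ range (M + 1), e t = 1) (c : Fin m → ℕ) (hc : ∀ i, c i ≤ M)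
    (hlt : ∀ t < M, (univ.filter (t < c ·)).card * (M + 1) < m * (M - t))
    (hle : ∏ i, e (c i) ≤ 1) : ∀ t ≤ M, e t = 1 := by
  classical
  have hratio : ∀ t, 0 < e (t + 1) / e t := fun t => zero_lt_iff.2 (div_ne_zero (he _).ne' (he _).ne')
  have hratio1 : ∀ t < M, e (t + 1) / e t ≤ 1 := fun t ht => (div_le_one₀ (he t)).2 (hanti t ht)
  have h1 : (∏ i, e (c i)) ^ (M + 1) = e 0 ^ (m * (M + 1)) *
      ∏ t ∈ range M, (e (t + 1) / e t) ^ ((univ.filter (t < c ·)).card * (M + 1)) := by
    rw [prod_eq_ratio e he univ c M fun i _ => hc i, mul_pow, ← prod_pow, ← pow_mul, card_univ, Fintype.card_fin]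
    simp only [← pow_mul]
  have h2 : (1 : Γ) = e 0 ^ (m * (M + 1)) * ∏ t ∈ range M, (e (t + 1) / e t) ^ (m * (M - t)) := by
    have := congrArg (· ^ m) (prod_eq_ratio e he (range (M + 1)) id M fun i hi => Nat.lt_succ_iff.1 (mem_range.1 hi))
    simp only [id, hprod, one_pow, mul_pow, ← prod_pow, ← pow_mul, card_range] at this
    rw [this, mul_comm (M + 1) m]
    congr 1
    refine prod_congr rfl fun t ht => ?_
    rw [mem_range] at ht
    congr 1
    rw [show ((range (M + 1)).filter (t < ·)) = Finset.Ioc t M by ext x; simp; omega, Nat.card_Ioc, mul_comm]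
  have hall : ∀ t < M, e (t + 1) / e t = 1 := by
    by_contra! hne
    obtain ⟨t, ht, hne⟩ := hne
    have hlt' : ∏ s ∈ range M, (e (s + 1) / e s) ^ (m * (M - s)) <
        ∏ s ∈ range M, (e (s + 1) / e s) ^ ((univ.filter (s < c ·)).card * (M + 1)) := by
      rw [← mul_prod_erase _ _ (mem_range.2 ht), ← mul_prod_erase _ _ (mem_range.2 ht)]
      refine mul_lt_mul_of_lt_of_le_of_pos_of_nonneg
        (pow_lt_pow_right_of_lt_one₀ (hratio t) (lt_of_le_of_ne (hratio1 t ht) hne) (hlt t ht))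
        (prod_le_prod (fun s _ => zero_le) fun s hs => ?_)
        (zero_lt_iff.2 (prod_ne_zero_iff.2 fun s _ => pow_ne_zero _ (hratio s).ne')) zero_le
      have hsM := mem_range.1 (mem_of_mem_erase hs)
      exact pow_le_pow_of_le_one zero_le (hratio1 s hsM) (hlt s hsM).le
    have : 1 < (∏ i, e (c i)) ^ (M + 1) := by
      rw [h1, h2]
      exact (mul_lt_mul_iff_right₀ (pow_pos (he 0) _)).2 hlt'
    exact absurd (pow_le_one₀ zero_le hle) (not_le.2 this)
  have hconst : ∀ t ≤ M, e t = e 0 := fun t ht => by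
    rw [eq_prod_ratio e he t, prod_eq_one fun s hs => hall s (lt_of_lt_of_le (mem_range.1 hs) ht), mul_one]
  intro t ht
  rw [hconst t ht]
  rw [prod_congr rfl fun s hs => hconst s (Nat.lt_succ_iff.1 (mem_range.1 hs)), prod_const, card_range] at hprod
  exact (pow_eq_one_iff_of_nonneg zero_le (Nat.succ_ne_zero M)).1 hprod

end Groth.Agent.FormSub28
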