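import Groth.Agent.Lib.FormSub28.Unstable
import Groth.Agent.Lib.FormSub28.Majorize
import Groth.Agent.Lib.PlaceRat28.Curve
import Groth.Agent.S11796
import Mathlib.Data.Fin.Tuple.Sort

/-!
# Strictly balanced configurations of points are stable
-/

universe u

open TensorProduct MvPolynomial CoordGrp WithConv Groth.Agent.OrbitH28

noncomputable section

namespace Groth.Agent.FormSub28

variable {k : Type u} [Field k] {N d : ℕ}

section Gauss

variable {K : Type u} [Field K] (V : ValuationSubring K) (res : V →+* k)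

/-- Integral polynomials stay integral under integral substitutions. -/
lemma coeff_subM_mem (M : Matrix (Fin N) (Fin N) V) {F : MvPolynomial (Fin N) K} (hF : ∀ l, F.coeff l ∈ V)
    (l : Fin N →₀ ℕ) : (subM (M.map (algebraMap V K)) F).coeff l ∈ V := by
  obtain ⟨F₀, rfl⟩ : F ∈ Set.range (MvPolynomial.map (algebraMap V K)) :=
    MvPolynomial.mem_range_map_iff_coeffs_subset.2 fun c hc => by
      obtain ⟨l, -, rfl⟩ := mem_coeffs_iff.1 hc
      exact ⟨⟨_, hF l⟩, rfl⟩
  have h : subM (M.map (algebraMap V K)) (MvPolynomial.map (algebraMap V K) F₀) =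
      MvPolynomial.map (algebraMap V K) (aeval (fun i => ∑ j, C (M i j) * X j) F₀) := by
    induction F₀ using MvPolynomial.induction_on with
    | C c => simp [subM, GLRed28.sub]
    | add p q hp hq =>
      simp only [map_add]
      rw [hp (fun l => by rw [coeff_map]; exact SetLike.coe_mem _),
        hq (fun l => by rw [coeff_map]; exact SetLike.coe_mem _)]
    | mul_X p i hp =>
      simp only [map_mul]
      rw [hp (fun l => by rw [coeff_map]; exact SetLike.coe_mem _)]
      simp [subM, GLRed28.sub]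
  rw [h, coeff_map]
  exact SetLike.coe_mem _

omit [Field k] in
lemma lin_ne_zero {R : Type u} [CommRing R] {q : Fin N → R} {j : Fin N} (hj : q j ≠ 0) : lin q ≠ 0 := by
  classical
  intro h
  refine hj ?_
  have := congrArg (coeff (Finsupp.single j 1)) h
  rw [lin, coeff_sum, coeff_zero, Finset.sum_eq_single j] at this
  · simpa [coeff_C_mul, coeff_X'] using this
  · intro i _ hi
    rw [coeff_C_mul, coeff_X', if_neg (fun e => hi (Finsupp.single_left_injective one_ne_zero e)), mul_zero]
  · simp

/-- Gauss: an integral product of linear forms bounds every product of their coefficients. -/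
theorem prod_valuation_le {m : ℕ} (hker : RingHom.ker res = IsLocalRing.maximalIdeal V) (q : Fin m → Fin N → K)
    (hF : ∀ l, (∏ i, lin (q i)).coeff l ∈ V) (c : Fin m → Fin N) (hc : ∀ i, q i (c i) ≠ 0) :
    ∏ i, V.valuation (q i (c i)) ≤ 1 := by
  classical
  choose J hJmem hJ using fun i => Finset.exists_max_image Finset.univ (fun j => V.valuation (q i j))
    ⟨c i, Finset.mem_univ _⟩
  have hJ0 : ∀ i, q i (J i) ≠ 0 := fun i h => by
    have := hJ i (c i) (Finset.mem_univ _)
    rw [h, map_zero] at this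
    exact hc i ((map_eq_zero V.valuation).1 (le_zero_iff.1 this))
  let u : Fin m → Fin N → V := fun i j => ⟨q i j / q i (J i), (V.valuation_le_one_iff _).1 (by
    rw [map_div₀, div_le_one₀ (zero_lt_iff.2 ((map_ne_zero _).2 (hJ0 i)))]
    exact hJ i j (Finset.mem_univ _))⟩
  have hq : ∀ i, lin (q i) = C (q i (J i)) * MvPolynomial.map (algebraMap V K) (lin (u i)) := by
    intro i
    rw [lin, lin, map_sum, Finset.mul_sum]
    refine Finset.sum_congr rfl fun j _ => ?_
    rw [map_mul (MvPolynomial.map (algebraMap V K)), map_C, map_X, ← mul_assoc, ← map_mul]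
    exact congrArg (fun z => C z * X j) (mul_div_cancel₀ (q i j) (hJ0 i)).symm
  have hne : MvPolynomial.map res (∏ i, lin (u i)) ≠ 0 := by
    rw [map_prod, Finset.prod_ne_zero_iff]
    intro i _
    rw [show MvPolynomial.map res (lin (u i)) = lin (fun j => res (u i j)) by simp [lin]]
    refine lin_ne_zero (j := J i) ?_
    rw [show u i (J i) = 1 from Subtype.ext (div_self (hJ0 i)), map_one]
    exact one_ne_zero
  obtain ⟨l, hl⟩ := MvPolynomial.ne_zero_iff.1 hne
  rw [coeff_map] at hl
  have hunit : IsUnit ((∏ i, lin (u i)).coeff l) := by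
    by_contra h
    exact hl (RingHom.mem_ker.1 (hker ▸ (IsLocalRing.mem_maximalIdeal _).2 h))
  have := hF l
  rw [Finset.prod_congr rfl fun i _ => hq i, Finset.prod_mul_distrib, ← map_prod, ← map_prod, coeff_C_mul,
    coeff_map, ← V.valuation_le_one_iff, map_mul,
    show V.valuation (algebraMap V K ((∏ i, lin (u i)).coeff l)) = 1 from (V.valuation_eq_one_iff _).1 hunit,
    mul_one, map_prod] at this
  exact le_trans (Finset.prod_le_prod (fun _ _ => zero_le) fun i _ => hJ i (c i) (Finset.mem_univ _)) this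

/-- An element of the group keeping a strictly balanced configuration integral is integral. -/
theorem mem_of_balanced [Algebra k K] (halg : ∀ c : k, ∃ h : algebraMap k K c ∈ V, res ⟨_, h⟩ = c)
    (hker : RingHom.ker res = IsLocalRing.maximalIdeal V) {m : ℕ} {p : Fin m → Fin N → k} (hp : ∀ i, p i ≠ 0)
    (hlt : ∀ W : Submodule k (Fin N → k), W ≠ ⊥ → W ≠ ⊤ →
      Nat.card {i : Fin m // p i ∈ W} * N < m * Module.finrank k W)
    (Ξ : Matrix (Fin N) (Fin N) K) (hdet : Ξ.det = 1)
    (hF : ∀ l, (∏ i, lin (Matrix.vecMul (fun j => algebraMap k K (p i j)) Ξ)).coeff l ∈ V) :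
    ∀ i j, Ξ i j ∈ V := by
  classical
  rcases Nat.eq_zero_or_pos N with rfl | hN
  · exact fun i => i.elim0
  obtain ⟨M, rfl⟩ : ∃ M, N = M + 1 := ⟨N - 1, by omega⟩
  choose halgV halgres using halg
  obtain ⟨A, B, δ, hA, hB, hΞ⟩ := S11796.result V K (M + 1) Ξ
  have hδdet : ∏ j, δ j = 1 := by
    have := congrArg Matrix.det hΞ
    rwa [hdet, Matrix.det_mul, Matrix.det_mul, Matrix.det_diagonal, ← RingHom.mapMatrix_apply,
      ← RingHom.mapMatrix_apply, ← RingHom.map_det, ← RingHom.map_det, hA, hB, map_one, one_mul, mul_one,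
      eq_comm] at this
  have hδ0 : ∀ j, δ j ≠ 0 := fun j h => by
    rw [Finset.prod_eq_zero (Finset.mem_univ j) h] at hδdet
    exact zero_ne_one hδdet
  let qV : Fin m → Fin (M + 1) → V := fun i => Matrix.vecMul (fun l => (⟨_, halgV (p i l)⟩ : V)) A
  let q : Fin m → Fin (M + 1) → K := fun i j => algebraMap V K (qV i j) * δ j
  have hq : ∀ i, q i = Matrix.vecMul (Matrix.vecMul (fun j => algebraMap k K (p i j)) (A.map (algebraMap V K)))
      (Matrix.diagonal δ) := by
    intro i
    funext j
    rw [Matrix.vecMul_diagonal]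
    simp only [q]
    congr 1
    exact RingHom.map_vecMul (algebraMap V K) A _ j
  have hFq : ∀ l, (∏ i, lin (q i)).coeff l ∈ V := by
    have hBadj : B.map (algebraMap V K) * B.adjugate.map (algebraMap V K) = 1 := by
      rw [← Matrix.map_mul, Matrix.mul_adjugate, hB, one_smul, Matrix.map_one _ (map_zero _) (map_one _)]
    intro l
    have := coeff_subM_mem V B.adjugate hF l
    rw [map_prod] at this
    have e : ∀ i, subM (B.adjugate.map (algebraMap V K))
        (lin (Matrix.vecMul (fun j => algebraMap k K (p i j)) Ξ)) = lin (q i) := fun i => by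
      rw [subM_lin, hq, hΞ]
      congr 1
      simp only [Matrix.vecMul_vecMul, Matrix.mul_assoc, hBadj, Matrix.mul_one]
    rw [Finset.prod_congr rfl fun i _ => e i] at this
    exact this
  let Ā : Matrix (Fin (M + 1)) (Fin (M + 1)) k := res.mapMatrix A
  have hĀ : Ā.det = 1 := by rw [← RingHom.map_det, hA, map_one]
  have hres : ∀ i j, res (qV i j) = Matrix.vecMul (p i) Ā j := fun i j => by
    rw [show res (qV i j) = Matrix.vecMul (fun l => res (⟨_, halgV (p i l)⟩ : V)) Ā j from
      RingHom.map_vecMul res A _ j]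
    congr 1
    exact funext fun l => halgres (p i l)
  have hĀinv : ∀ v : Fin (M + 1) → k, Matrix.vecMul v Ā = 0 → v = 0 := fun v hv => by
    by_contra hne
    exact one_ne_zero (hĀ.symm.trans (Matrix.exists_vecMul_eq_zero_iff.1 ⟨v, hne, hv⟩))
  let τ : Equiv.Perm (Fin (M + 1)) := Tuple.sort fun j => OrderDual.toDual (V.valuation (δ j))
  have hτ : ∀ s t : Fin (M + 1), s ≤ t → V.valuation (δ (τ t)) ≤ V.valuation (δ (τ s)) :=
    fun s t hst => Tuple.monotone_sort (fun j => OrderDual.toDual (V.valuation (δ j))) hst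
  let fm : ℕ → Fin (M + 1) := fun t => ⟨min t M, by omega⟩
  let e : ℕ → V.ValueGroup := fun t => V.valuation (δ (τ (fm t)))
  have hfirst : ∀ i, ∃ t : ℕ, t ≤ M ∧ Matrix.vecMul (p i) Ā (τ (fm t)) ≠ 0 := by
    intro i
    by_contra! hcon
    refine hp i (hĀinv _ (funext fun j => ?_))
    obtain ⟨s, rfl⟩ := τ.surjective j
    have := hcon s (Nat.lt_succ_iff.1 s.2)
    rwa [show fm s = s from Fin.ext (min_eq_left (Nat.lt_succ_iff.1 s.2))] at this
  let c : Fin m → ℕ := fun i => Nat.find (hfirst i)
  have hone := eq_one_of_counts (M := M) e (fun t => zero_lt_iff.2 ((map_ne_zero _).2 (hδ0 _)))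
    (fun t ht => hτ _ _ (Fin.mk_le_mk.2 (by omega))) ?_ c (fun i => (Nat.find_spec (hfirst i)).1) ?_ ?_
  · intro i j
    have hd : ∀ s, δ s ∈ V := fun s => by
      obtain ⟨t, rfl⟩ := τ.surjective s
      have := hone t (Nat.lt_succ_iff.1 t.2)
      simp only [e, show fm t = t from Fin.ext (min_eq_left (Nat.lt_succ_iff.1 t.2))] at this
      exact (V.valuation_le_one_iff _).1 this.le
    rw [hΞ, Matrix.mul_apply]
    refine sum_mem fun s _ => mul_mem ?_ (SetLike.coe_mem _)
    rw [Matrix.mul_diagonal]
    exact mul_mem (SetLike.coe_mem _) (hd s)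
  · rw [Finset.prod_range fun t => e t, show ∏ t : Fin (M + 1), e t = ∏ t, V.valuation (δ (τ t)) from
      Finset.prod_congr rfl fun t _ => by
        simp only [e, show fm t = t from Fin.ext (min_eq_left (Nat.lt_succ_iff.1 t.2))],
      Equiv.prod_comp τ (fun j => V.valuation (δ j)), ← map_prod, hδdet, map_one]
  · intro t ht
    let L : (Fin (M + 1) → k) →ₗ[k] (Fin (t + 1) → k) :=
      { toFun := fun v s => Matrix.vecMul v Ā (τ ⟨s, by omega⟩)
        map_add' := fun v w => by funext s; simp [Matrix.add_vecMul]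
        map_smul' := fun r v => by funext s; simp [Matrix.smul_vecMul] }
    have hLs : Function.Surjective L := by
      intro z
      refine ⟨Matrix.vecMul (fun j => if h : (τ.symm j : ℕ) < t + 1 then z ⟨τ.symm j, h⟩ else 0) Ā.adjugate,
        funext fun s => ?_⟩
      show Matrix.vecMul (Matrix.vecMul _ Ā.adjugate) Ā (τ _) = _
      rw [Matrix.vecMul_vecMul, Matrix.adjugate_mul, hĀ, one_smul, Matrix.vecMul_one]
      simp [Equiv.symm_apply_apply, Nat.lt_succ_iff.1 s.2]
    have hrk : Module.finrank k (LinearMap.ker L) = M - t := by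
      have := LinearMap.finrank_range_add_finrank_ker L
      rw [LinearMap.range_eq_top.2 hLs, finrank_top, Module.finrank_fin_fun, Module.finrank_fin_fun] at this
      omega
    have h := hlt (LinearMap.ker L) (fun h => by rw [h, finrank_bot] at hrk; omega)
      (fun h => by rw [h, finrank_top, Module.finrank_fin_fun] at hrk; omega)
    rw [hrk, Nat.card_eq_fintype_card, Fintype.card_subtype] at h
    refine lt_of_le_of_lt (Nat.mul_le_mul_right _ (Finset.card_le_card fun i hi => ?_)) h
    rw [Finset.mem_filter] at hi ⊢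
    refine ⟨hi.1, LinearMap.mem_ker.2 (funext fun s => ?_)⟩
    by_contra hne
    have hs : (s : ℕ) ≤ t := Nat.lt_succ_iff.1 s.2
    refine Nat.find_min (hfirst i) (m := (s : ℕ)) (lt_of_le_of_lt hs hi.2) ⟨by omega, ?_⟩
    rwa [show fm s = (⟨(s : ℕ), by omega⟩ : Fin (M + 1)) from Fin.ext (min_eq_left (by omega))]
  · have hqc : ∀ i, V.valuation (q i (τ (fm (c i)))) = e (c i) := fun i => by
      have hu : IsUnit (qV i (τ (fm (c i)))) := by
        by_contra hu
        refine (Nat.find_spec (hfirst i)).2 ?_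
        rw [← hres]
        exact RingHom.mem_ker.1 (hker ▸ (IsLocalRing.mem_maximalIdeal _).2 hu)
      simp only [q, map_mul]
      rw [show V.valuation (algebraMap V K (qV i (τ (fm (c i))))) = 1 from (V.valuation_eq_one_iff _).1 hu,
        one_mul]
    rw [← Finset.prod_congr rfl fun i _ => hqc i]
    refine prod_valuation_le V res hker q hFq _ fun i h => ?_
    have h2 := hqc i
    rw [h, map_zero] at h2
    exact (map_ne_zero _).2 (hδ0 _) h2.symm

end Gauss

section Main

variable [IsAlgClosed k]

lemma finiteType_SL : Algebra.FiniteType k (SLn N k) := by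
  haveI : Algebra.FiniteType k (GLb N k) :=
    inferInstanceAs (Algebra.FiniteType k (MvPolynomial (GLPoly.Idx N) k))
  haveI : Algebra.FiniteType k (GLn N k) :=
    Algebra.FiniteType.of_surjective (GLn.mk N k) Ideal.Quotient.mk_surjective
  exact Algebra.FiniteType.of_surjective (SLn.mk N k) Ideal.Quotient.mk_surjective

lemma entries_mem {K : Type u} [Field K] [Algebra k K] (V : ValuationSubring K) (res : V →+* k)
    (halg : ∀ c : k, ∃ h : algebraMap k K c ∈ V, res ⟨_, h⟩ = c)
    (hker : RingHom.ker res = IsLocalRing.maximalIdeal V) {m : ℕ} (hm : (m.factorial : k) ≠ 0)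
    {p : Fin m → Fin N → k} (hp : ∀ i, p i ≠ 0) {a : FormIdx N m → k}
    (ha : formPoly a = ∏ i, ∑ j, C (p i j) * X j)
    (hlt : ∀ W : Submodule k (Fin N → k), W ≠ ⊥ → W ≠ ⊤ →
      Nat.card {i : Fin m // p i ∈ W} * N < m * Module.finrank k W)
    (Ξ : SLn N k →ₐ[k] K) (hint : ∀ l, Ξ (orb a (X l)) ∈ V) (i j : Fin N) : Ξ (SLn.X i j) ∈ V := by
  refine mem_of_balanced V res halg hker hp hlt (Matrix.of fun i j => Ξ (SLn.X i j)) (det_mat Ξ) (fun l => ?_) i j
  rw [← formPoly_orb_prod hm ha Ξ]
  by_cases hl : l.degree = m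
  · rw [show l = (⟨l, hl⟩ : FormIdx N m).1 from rfl, coeff_formPoly]
    exact mul_mem (natCast_mem _ _) (hint _)
  · rw [(isHomogeneous_formPoly _).coeff_eq_zero hl]
    exact zero_mem _

theorem isStableVec_of_balanced {m : ℕ} (hm : (m.factorial : k) ≠ 0)
    {p : Fin m → Fin N → k} (hp : ∀ i, p i ≠ 0) {a : FormIdx N m → k}
    (ha : formPoly a = ∏ i, ∑ j, C (p i j) * X j)
    (hlt : ∀ W : Submodule k (Fin N → k), W ≠ ⊥ → W ≠ ⊤ →
      Nat.card {i : Fin m // p i ∈ W} * N < m * Module.finrank k W) :
    @GLin.IsStableVec k _ (SLn N k) _ _ (FormIdx N m) (cF N m k) (hcF N m k) a := by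
  classical
  letI := cF N m k
  haveI := hcF N m k
  haveI := finiteType_SL (k := k) (N := N)
  refine ⟨(closed_iff_isClosedOrbit _).1 fun z hz => ?_, ?_⟩
  · obtain ⟨K, _, _, V, res, ω, halg, hker, hext⟩ := PlaceRat28.exists_place (orb a) z hz
    choose hmem hres using hext
    have hX := entries_mem V res halg hker hm hp ha hlt ω fun l => hmem (X l)
    have hV : ∀ y : SLn N k, ω y ∈ V := by
      intro y
      have hy : y ∈ Algebra.adjoin k (Set.range fun q : Fin N × Fin N => (SLn.X q.1 q.2 : SLn N k)) := by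
        rw [adjoin_X_eq_top]; exact Algebra.mem_top
      induction hy using Algebra.adjoin_induction with
      | mem x hx => obtain ⟨q, rfl⟩ := hx; exact hX q.1 q.2
      | algebraMap r => rw [AlgHom.commutes]; exact (halg r).1
      | add x y _ _ hx hy => rw [map_add]; exact add_mem hx hy
      | mul x y _ _ hx hy => rw [map_mul]; exact mul_mem hx hy
    let s : SLn N k →ₐ[k] k :=
      { toRingHom := res.comp (ω.toRingHom.codRestrict V.toSubring hV)
        commutes' := fun c => by
          refine Eq.trans ?_ (halg c).2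
          exact congrArg res (Subtype.ext (ω.commutes c)) }
    refine ⟨toConv s, AlgHom.ext fun f => ?_⟩
    rw [mv_apply]
    show res (ω.toRingHom.codRestrict V.toSubring hV (orb a f)) = z f
    rw [← hres f]
    rfl
  · set I := GLin.stabIdeal k (SLn N k) (GLin.vecPt k (FormIdx N m) a)
    let xb : Fin N × Fin N → SLn N k ⧸ I := fun q => Ideal.Quotient.mkₐ k I (SLn.X q.1 q.2)
    have hgen : Algebra.adjoin k (Set.range xb) = ⊤ := by
      rw [show Set.range xb = Ideal.Quotient.mkₐ k I '' Set.range (fun q : Fin N × Fin N => SLn.X q.1 q.2) from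
        (Set.range_comp (Ideal.Quotient.mkₐ k I) fun q : Fin N × Fin N => (SLn.X q.1 q.2 : SLn N k)),
        ← AlgHom.map_adjoin, adjoin_X_eq_top, Algebra.map_top, AlgHom.range_eq_top]
      exact Ideal.Quotient.mk_surjective
    have hint : ∀ q, IsIntegral k (xb q) := by
      intro q
      by_contra hz
      obtain ⟨K, _, _, V, res, ω, halg, hker, hout⟩ := PlaceRat28.exists_escape hz
      refine hout (entries_mem V res halg hker hm hp ha hlt (ω.comp (Ideal.Quotient.mkₐ k I)) (fun l => ?_) q.1 q.2)
      have hmem : X l - algebraMap k (FormRing k N m) (a l) ∈ RingHom.ker (GLin.vecPt k (FormIdx N m) a) := by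
        simp [GLin.vecPt]
      have h0 : Ideal.Quotient.mkₐ k I (orb a (X l - algebraMap k (FormRing k N m) (a l))) = 0 :=
        Ideal.Quotient.eq_zero_iff_mem.2 (Ideal.mem_map_of_mem _ hmem)
      rw [map_sub, AlgHom.commutes, map_sub, AlgHom.commutes, sub_eq_zero] at h0
      rw [AlgHom.comp_apply, h0, AlgHom.commutes]
      exact (halg _).1
    show Module.Finite k (SLn N k ⧸ I)
    have := Algebra.finite_adjoin_of_finite_of_isIntegral (R := k) (Set.finite_range xb)
      (by rintro _ ⟨q, rfl⟩; exact hint q)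
    rw [hgen] at this
    exact Module.Finite.equiv (Subalgebra.topEquiv (R := k) (A := SLn N k ⧸ I)).toLinearEquiv

end Main

end Groth.Agent.FormSub28
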