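import Groth.Agent.Lib.FormSub28.Basic
import Mathlib.LinearAlgebra.Projection
import Mathlib.LinearAlgebra.Dimension.Constructions

/-!
# Configurations of points violating the strict inequality are not stable
-/

universe u

open TensorProduct MvPolynomial CoordGrp WithConv Groth.Agent.OrbitH28

noncomputable section

namespace Groth.Agent.FormSub28

/-- A finite stabiliser scheme has finitely many points. -/
theorem finStab_of_hasFiniteStab {k : Type u} [Field k] {A : Type u} [CommRing A] [HopfAlgebra k A]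
    {R : Type u} [CommRing R] [Algebra k R] [HopfRep.Comod k A R] [GLin.IsCoactAlg k A R] {x : R →ₐ[k] k}
    (h : GLin.HasFiniteStab k A x) : FinStab A x := by
  haveI : Module.Finite k (A ⧸ GLin.stabIdeal k A x) := h
  set I := GLin.stabIdeal k A x
  have hfin : Finite (A ⧸ I →ₐ[k] k) :=
    (linearIndependent_toLinearMap k (A ⧸ I) k).finite
  have hkill : ∀ g : Pts k A, mv g x = x → ∀ a ∈ I, g.ofConv a = 0 := by
    intro g hg a ha
    refine RingHom.mem_ker.1 ((?_ : I ≤ RingHom.ker g.ofConv) ha)
    refine Ideal.map_le_iff_le_comap.2 fun f hf => ?_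
    show g.ofConv (GLin.orbitHom k A x f) = 0
    rw [← mv_apply, hg]
    exact hf
  exact Set.finite_coe_iff.1 (Finite.of_injective
    (fun g : {g : Pts k A // mv g x = x} => Ideal.Quotient.liftₐ I g.1.ofConv (hkill g.1 g.2))
    fun g g' e => Subtype.ext (WithConv.ofConv_injective (AlgHom.ext fun a =>
      AlgHom.congr_fun e (Ideal.Quotient.mkₐ k I a))))

variable {k : Type u} [Field k] {N d : ℕ}

lemma mul_X_SL (g h : Pts k (SLn N k)) (i j : Fin N) :
    (g * h).ofConv (SLn.X i j) = ∑ l, g.ofConv (SLn.X i l) * h.ofConv (SLn.X l j) := by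
  rw [AlgHom.convMul_apply]
  have e : CoalgebraStruct.comul (R := k) (SLn.X i j : SLn N k) = ∑ l, SLn.X i l ⊗ₜ[k] SLn.X l j := by
    show CoalgebraStruct.comul (R := k) (SLn.mkHom N k (GLn.X i j)) = _
    rw [← CoalgHomClass.map_comp_comul_apply (SLn.mkHom N k), GLn.comul_X, map_sum]
    rfl
  rw [e, map_sum]
  simp

/-- A point of the special linear group. -/
def ptM (M : Matrix (Fin N) (Fin N) k) (h : M.det = 1) : Pts k (SLn N k) := toConv (SLn.pt N k M h)

/-- The moved coordinates. -/
def movedVec (g : Pts k (SLn N k)) (a : FormIdx N d → k) : FormIdx N d → k := fun m => g.ofConv (orb a (X m))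

lemma mv_vecPt (g : Pts k (SLn N k)) (a : FormIdx N d → k) :
    @mv k _ (SLn N k) _ _ (FormRing k N d) _ _ (cF N d k) (hcF N d k) g (GLin.vecPt k _ a) =
      GLin.vecPt k _ (movedVec g a) := by
  letI := cF N d k
  haveI := hcF N d k
  refine MvPolynomial.algHom_ext fun m => ?_
  rw [mv_apply]
  simp [GLin.vecPt, movedVec]

lemma formPoly_movedVec (hd : (d.factorial : k) ≠ 0) (g : Pts k (SLn N k)) (a : FormIdx N d → k) :
    formPoly (movedVec g a) = subM (Matrix.of fun i j => g.ofConv (SLn.X i j)) (formPoly a) := by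
  have := formPoly_orb (K := k) hd a g.ofConv
  rwa [Algebra.algebraMap_self, MvPolynomial.map_id] at this

lemma mat_ptM (M : Matrix (Fin N) (Fin N) k) (h : M.det = 1) :
    (Matrix.of fun i j => (ptM M h).ofConv (SLn.X i j)) = M := by
  ext i j
  exact SLn.pt_X M h i j

/-- Divisibility by a power of the ideal of the first `r` variables. -/
def lowDeg (r : ℕ) (m : Fin N →₀ ℕ) : ℕ := ∑ j : Fin N, if (j : ℕ) < r then m j else 0

omit [Field k] in
lemma lowDeg_add (r : ℕ) (m m' : Fin N →₀ ℕ) : lowDeg r (m + m') = lowDeg r m + lowDeg r m' := by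
  simp only [lowDeg, Finsupp.add_apply, ← Finset.sum_add_distrib]
  exact Finset.sum_congr rfl fun j _ => by split_ifs <;> simp

lemma lowDeg_prod (r : ℕ) {ι : Type} [DecidableEq ι] (s : Finset ι) (q : ι → Fin N → k) (S : Finset ι)
    (hS : ∀ i ∈ S, ∀ j : Fin N, r ≤ (j : ℕ) → q i j = 0) :
    ∀ m ∈ (∏ i ∈ s, lin (q i)).support, (s.filter (· ∈ S)).card ≤ lowDeg r m := by
  induction s using Finset.induction_on with
  | empty => intro m _; simp
  | insert a s ha ih =>
    intro m hm
    rw [Finset.prod_insert ha] at hm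
    obtain ⟨m₁, hm₁, m₂, hm₂, rfl⟩ := Finset.mem_add.1 (support_mul _ _ hm)
    rw [lowDeg_add, Finset.filter_insert]
    have h2 := ih m₂ hm₂
    split_ifs with haS
    · rw [Finset.card_insert_of_notMem (fun h => ha (Finset.mem_filter.1 h).1)]
      have h1 : 1 ≤ lowDeg r m₁ := by
        obtain ⟨j, -, hj⟩ : ∃ j ∈ (Finset.univ : Finset (Fin N)),
            m₁ ∈ (C (q a j) * X j : MvPolynomial (Fin N) k).support := by
          by_contra! hcon
          refine mem_support_iff.1 hm₁ ?_
          rw [lin, coeff_sum]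
          exact Finset.sum_eq_zero fun j hj => notMem_support_iff.1 (hcon j hj)
        rw [mem_support_iff, coeff_C_mul, coeff_X'] at hj
        have hq : q a j ≠ 0 := left_ne_zero_of_mul hj
        have hm1 : Finsupp.single j 1 = m₁ := by
          by_contra hne
          exact hj (by rw [if_neg hne, mul_zero])
        have hjr : (j : ℕ) < r := by
          by_contra hle
          exact hq (hS a haS j (not_lt.1 hle))
        rw [← hm1, lowDeg]
        refine le_trans ?_ (Finset.single_le_sum (fun i _ => Nat.zero_le _) (Finset.mem_univ j))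
        simp [hjr]
      omega
    · omega

theorem exists_adapted (W : Submodule k (Fin N → k)) (hN : 0 < N) :
    ∃ G : Matrix (Fin N) (Fin N) k, G.det = 1 ∧
      ∀ p ∈ W, ∀ j : Fin N, Module.finrank k W ≤ (j : ℕ) → Matrix.vecMul p G j = 0 := by
  classical
  obtain ⟨W', hW'⟩ := W.exists_isCompl
  let bW := Module.finBasis k W
  let bW' := Module.finBasis k W'
  have hsum : Module.finrank k W + Module.finrank k W' = N := by
    rw [Submodule.finrank_add_eq_of_isCompl hW', Module.finrank_fin_fun]
  let e := (finSumFinEquiv (m := Module.finrank k W) (n := Module.finrank k W')).trans (finCongr hsum)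
  let b : Module.Basis (Fin N) k (Fin N → k) :=
    (((bW.prod bW').map (W.prodEquivOfIsCompl W' hW'))).reindex e
  let G₀ : Matrix (Fin N) (Fin N) k := LinearMap.toMatrix' b.equivFun.toLinearMap |>.transpose
  have hG₀ : ∀ p, Matrix.vecMul p G₀ = b.equivFun p := fun p => by
    rw [Matrix.vecMul_transpose, LinearMap.toMatrix'_mulVec]
    rfl
  have hdet : G₀.det ≠ 0 := by
    intro h
    obtain ⟨v, hv, hvG⟩ := Matrix.exists_vecMul_eq_zero_iff.2 h
    rw [hG₀] at hvG
    exact hv (b.equivFun.map_eq_zero_iff.1 hvG)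
  let ε : Fin N → k := fun j => if j = ⟨0, hN⟩ then G₀.det⁻¹ else 1
  refine ⟨G₀ * Matrix.diagonal ε, ?_, fun p hp j hj => ?_⟩
  · rw [Matrix.det_mul, Matrix.det_diagonal, show ∏ i, ε i = G₀.det⁻¹ by simp [ε], mul_inv_cancel₀ hdet]
  · rw [← Matrix.vecMul_vecMul, Matrix.vecMul_diagonal, hG₀]
    have : b.equivFun p j = 0 := by
      rw [Module.Basis.equivFun_apply, Module.Basis.repr_reindex_apply]
      obtain ⟨i, hi⟩ : ∃ i, e.symm j = Sum.inr i := by
        rcases h : e.symm j with i | i
        · exfalso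
          have := congrArg (fun x => ((e x : Fin N) : ℕ)) h
          simp only [Equiv.apply_symm_apply] at this
          simp [e] at this
          omega
        · exact ⟨i, rfl⟩
      rw [hi, Module.Basis.map_repr, LinearEquiv.trans_apply,
        show (W.prodEquivOfIsCompl W' hW').symm p = ((⟨p, hp⟩ : W), 0) from
          Submodule.prodEquivOfIsCompl_symm_apply_left W W' hW' ⟨p, hp⟩, Module.Basis.prod_repr_inr]
      simp
    rw [this, zero_mul]

/-- A configuration with a subspace violating the strict inequality is not stable. -/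
theorem not_stable_of_le [IsAlgClosed k] {m : ℕ} (hm : (m.factorial : k) ≠ 0) {p : Fin m → Fin N → k}
    {a : FormIdx N m → k} (ha : formPoly a = ∏ i, ∑ j, C (p i j) * X j)
    (hst : @GLin.IsStableVec k _ (SLn N k) _ _ (FormIdx N m) (cF N m k) (hcF N m k) a)
    (W : Submodule k (Fin N → k)) (hW : W ≠ ⊥) (hW' : W ≠ ⊤)
    (hle : m * Module.finrank k W ≤ Nat.card {i : Fin m // p i ∈ W} * N) : False := by
  classical
  letI := cF N m k
  haveI := hcF N m k
  obtain ⟨hclosed, hfin⟩ := hst
  haveI : Algebra.FiniteType k (SLn N k) := by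
    haveI : Algebra.FiniteType k (GLb N k) :=
      inferInstanceAs (Algebra.FiniteType k (MvPolynomial (GLPoly.Idx N) k))
    haveI : Algebra.FiniteType k (GLn N k) :=
      Algebra.FiniteType.of_surjective (GLn.mk N k) Ideal.Quotient.mk_surjective
    exact Algebra.FiniteType.of_surjective (SLn.mk N k) Ideal.Quotient.mk_surjective
  set r := Module.finrank k W
  have hr0 : 0 < r := Nat.pos_of_ne_zero fun h => hW (Submodule.finrank_eq_zero.1 h)
  have hrN : r < N := by
    have := Submodule.finrank_lt hW'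
    simpa using this
  have hN : 0 < N := by omega
  obtain ⟨G, hG, hGW⟩ := exists_adapted W hN
  let g := ptM G hG
  set a1 := movedVec g a
  have ha1 : formPoly a1 = ∏ i, lin (Matrix.vecMul (p i) G) := by
    rw [formPoly_movedVec hm, mat_ptM, ha, map_prod]
    exact Finset.prod_congr rfl fun i _ => subM_lin G (p i)
  have hlow : ∀ l : FormIdx N m, a1 l ≠ 0 → r * m ≤ N * lowDeg r l.1 := by
    intro l hl
    have hsup : l.1 ∈ (formPoly a1).support := by
      rw [mem_support_iff, coeff_formPoly]
      exact mul_ne_zero (multinomial_ne_zero hm l) hl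
    rw [ha1] at hsup
    have := lowDeg_prod r Finset.univ (fun i => Matrix.vecMul (p i) G)
      (Finset.univ.filter fun i => p i ∈ W) (fun i hi j hj => hGW _ (Finset.mem_filter.1 hi).2 j hj) l.1 hsup
    have hcard : (Finset.univ.filter fun i => i ∈ (Finset.univ.filter fun i => p i ∈ W)).card =
        Nat.card {i : Fin m // p i ∈ W} := by
      rw [Nat.card_eq_fintype_card, Fintype.card_subtype]
      simp
    rw [hcard] at this
    calc r * m = m * r := mul_comm _ _
      _ ≤ Nat.card {i : Fin m // p i ∈ W} * N := hle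
      _ ≤ lowDeg r l.1 * N := Nat.mul_le_mul_right N this
      _ = N * lowDeg r l.1 := mul_comm _ _
  let δ : k → Fin N → k := fun t j => if (j : ℕ) < r then t ^ (N - r) else t⁻¹ ^ r
  have hδ : ∀ t : k, t ≠ 0 → (Matrix.diagonal (δ t)).det = 1 := by
    intro t ht
    rw [Matrix.det_diagonal, Finset.prod_ite, Finset.prod_const, Finset.prod_const]
    have e1 : (Finset.univ.filter fun j : Fin N => (j : ℕ) < r).card = r := by
      rw [Fin.card_filter_val_lt]; omega
    have e2 : (Finset.univ.filter fun j : Fin N => ¬ (j : ℕ) < r).card = N - r := by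
      have := Finset.card_filter_add_card_filter_not (s := (Finset.univ : Finset (Fin N)))
        (fun j : Fin N => (j : ℕ) < r)
      rw [Finset.card_univ, Fintype.card_fin, e1] at this
      omega
    rw [e1, e2, inv_pow, inv_pow, ← pow_mul, ← pow_mul, mul_comm r (N - r)]
    exact mul_inv_cancel₀ (pow_ne_zero _ ht)
  let e : FormIdx N m → ℕ := fun l => N * lowDeg r l.1 - r * m
  have hmoved : ∀ (v : FormIdx N m → k), (∀ l, v l ≠ 0 → r * m ≤ N * lowDeg r l.1) →
      ∀ (t : k) (ht : t ≠ 0), movedVec (ptM _ (hδ t ht)) v = fun l => v l * t ^ e l := by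
    intro v hv t ht
    refine formPoly_injective hm ?_
    rw [formPoly_movedVec hm, mat_ptM]
    simp only [formPoly, map_sum]
    refine Finset.sum_congr rfl fun l _ => ?_
    rw [show monomial l.1 ((l.1.multinomial : k) * v l) =
      C ((l.1.multinomial : k) * v l) * ∏ j, X j ^ l.1 j by
        rw [monomial_eq, Finsupp.prod_fintype _ _ (fun j => by simp)],
      map_mul, map_prod]
    simp only [map_pow]
    have hX : ∀ j : Fin N, subM (Matrix.diagonal (δ t)) (X j) = C (δ t j) * X j := fun j => by
      simp [subM, GLRed28.sub, Matrix.diagonal_apply, apply_ite C, ite_mul]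
    simp only [hX, mul_pow, Finset.prod_mul_distrib, ← map_pow, ← map_prod]
    rw [monomial_eq, Finsupp.prod_fintype _ _ (fun j => by simp),
      show ∀ c : k, subM (Matrix.diagonal (δ t)) (C c) = C c from fun c => (subM (Matrix.diagonal (δ t))).commutes c,
      ← mul_assoc,
      ← map_mul, mul_assoc]
    congr 2
    rcases eq_or_ne (v l) 0 with h0 | h0
    · simp [h0]
    congr 1
    congr 1
    have hA : lowDeg r l.1 + ∑ j : Fin N, (if (j : ℕ) < r then 0 else l.1 j) = m := by
      rw [lowDeg, ← Finset.sum_add_distrib]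
      conv_rhs => rw [← l.2, Finsupp.degree_eq_sum]
      exact Finset.sum_congr rfl fun j _ => by split_ifs <;> simp
    have hprod : ∏ j, δ t j ^ l.1 j =
        (t ^ (N - r)) ^ lowDeg r l.1 * (t⁻¹ ^ r) ^ (∑ j : Fin N, (if (j : ℕ) < r then 0 else l.1 j)) := by
      rw [lowDeg, ← Finset.prod_pow_eq_pow_sum, ← Finset.prod_pow_eq_pow_sum, ← Finset.prod_mul_distrib]
      exact Finset.prod_congr rfl fun j _ => by simp only [δ]; split_ifs <;> simp
    rw [hprod, inv_pow, inv_pow, ← pow_mul, ← pow_mul, ← div_eq_mul_inv, div_eq_iff (pow_ne_zero _ ht), ← pow_add]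
    congr 1
    have h1 := hv l h0
    have h2 : (N - r) * lowDeg r l.1 + r * lowDeg r l.1 = N * lowDeg r l.1 := by
      rw [← add_mul, Nat.sub_add_cancel hrN.le]
    have h3 : r * lowDeg r l.1 + r * (∑ j : Fin N, (if (j : ℕ) < r then 0 else l.1 j)) = r * m := by
      rw [← mul_add, hA]
    simp only [e]
    omega
  let b : FormIdx N m → k := fun l => a1 l * 0 ^ e l
  set x := GLin.vecPt k (FormIdx N m) a
  have hb : GLin.InOrbitClosure k (SLn N k) x (GLin.vecPt k _ b) := by
    intro f hf
    rw [RingHom.mem_ker] at hf ⊢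
    let P : Polynomial k := aeval (fun l => Polynomial.C (a1 l) * Polynomial.X ^ e l) f
    have hP : ∀ t : k, P.eval t = aeval (fun l => a1 l * t ^ e l) f := by
      intro t
      have : (Polynomial.aeval t).comp (aeval fun l => Polynomial.C (a1 l) * Polynomial.X ^ e l :
          FormRing k N m →ₐ[k] Polynomial k) = aeval fun l => a1 l * t ^ e l :=
        MvPolynomial.algHom_ext fun l => by simp
      rw [← this]
      simp [P]
    have hP0 : P = 0 := by
      refine Polynomial.eq_zero_of_infinite_isRoot P ?_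
      refine Set.Infinite.mono (s := {t : k | t ≠ 0}) (fun t ht => ?_) ?_
      · show P.eval t = 0
        rw [hP, ← hmoved a1 hlow t ht]
        show GLin.vecPt k _ (movedVec (ptM _ (hδ t ht)) a1) f = 0
        rw [← mv_vecPt, ← mv_vecPt, mv_mv, mv_apply, hf, map_zero]
      · exact (Set.finite_singleton (0 : k)).infinite_compl
    show aeval b f = 0
    have := hP 0
    rw [hP0, Polynomial.eval_zero] at this
    exact this.symm
  obtain ⟨h, hh⟩ := (closed_iff_isClosedOrbit x).2 hclosed _ hb
  have hfinb : FinStab (SLn N k) (GLin.vecPt k (FormIdx N m) b) := hh ▸ (finStab_of_hasFiniteStab hfin).mv h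
  have hblow : ∀ l, b l ≠ 0 → r * m ≤ N * lowDeg r l.1 := fun l hl => hlow l (left_ne_zero_of_mul hl)
  have hbfix : ∀ (t : k) (ht : t ≠ 0),
      mv (ptM _ (hδ t ht)) (GLin.vecPt k (FormIdx N m) b) = GLin.vecPt k (FormIdx N m) b := by
    intro t ht
    rw [mv_vecPt, hmoved b hblow t ht]
    congr 1
    funext l
    simp only [b]
    rcases Nat.eq_zero_or_pos (e l) with h0 | h0
    · simp [h0]
    · simp [zero_pow h0.ne']
  choose ρ hρ using fun u : k => IsAlgClosed.exists_pow_nat_eq u (Nat.sub_pos_of_lt hrN)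
  have hρ0 : ∀ u : k, u ≠ 0 → ρ u ≠ 0 := fun u hu h0 => hu (by
    rw [← hρ u, h0, zero_pow (Nat.sub_pos_of_lt hrN).ne'])
  refine Set.infinite_of_injOn_mapsTo (s := {u : k | u ≠ 0})
    (f := fun u => if hu : u = 0 then (1 : Pts k (SLn N k)) else ptM _ (hδ (ρ u) (hρ0 u hu)))
    (fun u hu u' hu' huu => ?_) (fun u hu => ?_) (Set.finite_singleton (0 : k)).infinite_compl hfinb
  · have h00 := congrArg (fun q : Pts k (SLn N k) => q.ofConv (SLn.X ⟨0, hN⟩ ⟨0, hN⟩)) huu
    simp only [dif_neg (show ¬ u = 0 from hu), dif_neg (show ¬ u' = 0 from hu')] at h00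
    simp only [ptM, SLn.pt_X, Matrix.diagonal_apply_eq, δ, if_pos hr0, hρ] at h00
    exact h00
  · show mv _ _ = _
    simp only [dif_neg (show ¬ u = 0 from hu)]
    exact hbfix _ (hρ0 u hu)

end Groth.Agent.FormSub28
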